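import Cfsg.Agent.Lib.SuzukiAbelian.Main
import Cfsg.Agent.Lib.SuzukiAbelian.SLTwoChar2
import Cfsg.Agent.Lib.Multiplier.Sylow

/-!
# `G ≅ SL(2, F) × Z(G)`

The subgroup `M` generated by the involutions is perfect and maps onto `G ⧸ Z(G) ≅ SL(2, F)`;
since the odd Sylow subgroups there are cyclic, transfer gives `M ⊓ Z(G) = 1`.
-/

set_option autoImplicit false

namespace Cfsg.Agent.Lib.SuzukiAbelian

open Subgroup
open Cfsg.Agent.Lib.Fusion.EACentralizers (nrm two EAHyp)
open Cfsg.Agent.Lib.Involutions.Basic (invol_mul_self invol_ne_one invol_inv orderOf_conj_eq)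
open scoped commutatorElement

variable {G : Type*} [Group G] [Finite G] {T : Sylow 2 G}

/-- The subgroup generated by the involutions. -/
def involClosure (G : Type*) [Group G] : Subgroup G := closure {t : G | orderOf t = 2}

omit [Finite G] in
theorem invol_mem_closure {t : G} (ht : orderOf t = 2) : t ∈ involClosure G := subset_closure ht

instance : (involClosure G).Normal := ⟨fun x hx g => by
  have : involClosure G ≤ (involClosure G).comap (MulAut.conj g).toMonoidHom := by
    rw [involClosure, closure_le]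
    intro t ht
    exact invol_mem_closure ((orderOf_conj_eq g t).trans ht)
  exact this hx⟩

theorem AIHyp.pow_two_of_mem (h : AIHyp T) {s : G} (hs : s ∈ T) : s ^ 2 = 1 := by
  refine h.center_inf ?_ (pow_mem hs 2)
  rw [← QuotientGroup.eq_one_iff, QuotientGroup.mk_pow]
  exact h.eahyp_quotient.pow_two (mem_map_of_mem (QuotientGroup.mk' (center G)) hs)

theorem AIHyp.T_le_closure (h : AIHyp T) : (T : Subgroup G) ≤ involClosure G := fun s hs => by
  by_cases hs1 : s = 1
  · rw [hs1]; exact one_mem _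
  · exact invol_mem_closure (orderOf_eq_prime (h.pow_two_of_mem hs) hs1)

/-- `G = M Z(G)`. -/
theorem AIHyp.exists_mem_closure (h : AIHyp T) (g : G) :
    ∃ m ∈ involClosure G, m⁻¹ * g ∈ center G := by
  obtain ⟨u, hu, huH⟩ := h.exists_invol_notMem
  have hH : ∀ y ∈ nrm T, ∃ m ∈ involClosure G, m⁻¹ * y ∈ center G := by
    intro y hy
    obtain ⟨d, -, hdy, w, hw, rfl⟩ := h.decomp hu huH hy
    obtain ⟨t, ht, htc⟩ := h.cen_decomp hdy
    refine ⟨u * w * t, mul_mem (mul_mem (invol_mem_closure hu) (invol_mem_closure hw))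
      (h.T_le_closure ht), ?_⟩
    rwa [show (u * w * t)⁻¹ * y = t⁻¹ * ((u * w)⁻¹ * y) by group]
  by_cases hg : g ∈ nrm T
  · exact hH g hg
  · obtain ⟨v, hv, hgv⟩ := h.exists_invol_coset hg
    obtain ⟨m, hm, hmc⟩ := hH _ (inv_mem hgv)
    refine ⟨v * m, mul_mem (invol_mem_closure hv) hm, ?_⟩
    rwa [show (v * m)⁻¹ * g = m⁻¹ * (g⁻¹ * v)⁻¹ by group]

/-- `M` is perfect. -/
theorem AIHyp.closure_le_commutator (h : AIHyp T) :
    involClosure G ≤ ⁅involClosure G, involClosure G⁆ := by
  obtain ⟨z, hz, hzT, -⟩ := h.exists_central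
  obtain ⟨t₁, ht₁, ht₁T, htz⟩ := h.exists_second_invol z hz
  obtain ⟨u, hu, huH⟩ := h.exists_invol_notMem
  -- an element of `M ⊓ H` acting fixed point freely on `T`
  obtain ⟨w, hw, hws, hwH⟩ := Fusion.Swappers.exists_swap h.isStronglyEmbedded huH
    hz (Fusion.EACentralizers.T_le hzT) ht₁ (Fusion.EACentralizers.T_le ht₁T)
  rw [invol_inv hu] at hwH
  have hd : (u * w) * z * (u * w)⁻¹ = t₁ := by
    calc u * w * z * (u * w)⁻¹ = u * (w * z * w⁻¹) * u⁻¹ := by group
      _ = (u * u) * t₁ * (u⁻¹ * u⁻¹) := by rw [hws]; group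
      _ = t₁ := by rw [invol_mul_self hu, invol_inv hu, invol_mul_self hu, one_mul, mul_one]
  let ψ : ↥(T : Subgroup G) → ↥(T : Subgroup G) := fun s => ⟨⁅u * w, (s : G)⁆, by
    rw [commutatorElement_def]
    exact mul_mem (Fusion.EACentralizers.conj_mem_T hwH s.2) (inv_mem s.2)⟩
  have hinj : Function.Injective ψ := by
    intro s r hsr
    have hsr' : ⁅u * w, (s : G)⁆ = ⁅u * w, (r : G)⁆ := congrArg Subtype.val hsr
    rw [commutatorElement_def, commutatorElement_def] at hsr'
    by_contra hne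
    set d := u * w with hdd
    have hx : (s : G) * (r : G)⁻¹ ≠ 1 := fun e => hne (Subtype.ext (mul_inv_eq_one.1 e))
    have hxT : (s : G) * (r : G)⁻¹ ∈ T := mul_mem s.2 (inv_mem r.2)
    have hfix : d * ((s : G) * (r : G)⁻¹) * d⁻¹ = (s : G) * (r : G)⁻¹ := by
      have h1 : d * (s : G) * d⁻¹ = d * (r : G) * d⁻¹ * (r : G)⁻¹ * s := by
        rw [← hsr']; group
      calc d * ((s : G) * (r : G)⁻¹) * d⁻¹ = (d * (s : G) * d⁻¹) * (d * (r : G) * d⁻¹)⁻¹ := by group
        _ = (d * (r : G) * d⁻¹) * ((r : G)⁻¹ * s) * (d * (r : G) * d⁻¹)⁻¹ := by rw [h1]; group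
        _ = (s : G) * (r : G)⁻¹ := by
          rw [h.comm (Fusion.EACentralizers.conj_mem_T hwH r.2) (mul_mem (inv_mem r.2) s.2),
            mul_inv_cancel_right, h.comm (inv_mem r.2) s.2]
    have hxd := (h.mem_cen_iff hxT (orderOf_eq_prime (h.pow_two_of_mem hxT) hx)).1
      (mul_inv_eq_iff_eq_mul.1 hfix)
    refine htz ?_
    rw [← hd, (h.mem_cen_iff hzT hz).2 hxd, mul_inv_cancel_right]
  have hT : (T : Subgroup G) ≤ ⁅involClosure G, involClosure G⁆ := by
    intro x hx
    obtain ⟨s, hs⟩ := Finite.injective_iff_surjective.1 hinj ⟨x, hx⟩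
    rw [← show ⁅u * w, (s : G)⁆ = x from congrArg Subtype.val hs]
    exact commutator_mem_commutator (mul_mem (invol_mem_closure hu) (invol_mem_closure hw))
      (h.T_le_closure s.2)
  conv_lhs => rw [involClosure]
  rw [closure_le]
  intro t ht
  obtain ⟨k, hk⟩ := h.exists_conj hz ht
  rw [← hk]
  exact (inferInstance : (⁅involClosure G, involClosure G⁆).Normal).conj_mem z (hT hzT) k

theorem AIHyp.exists_field (h : AIHyp T) :
    ∃ (F : Type) (_ : Field F) (_ : Fintype F), CharP F 2 ∧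
      Nonempty (G ⧸ center G ≃* Matrix.SpecialLinearGroup (Fin 2) F) := by
  obtain ⟨F, i1, i2, hcard, ⟨e⟩⟩ := h.eahyp_quotient.nonempty_mulEquiv_psl
  obtain ⟨n, hn⟩ := (imageSylow T).2.exists_card_eq
  obtain ⟨p, hpc⟩ := CharP.exists F
  obtain ⟨k, hp, hk⟩ := FiniteField.card F p
  have h2 : p = 2 := by
    have h1 : p ∣ 2 ^ n := by
      have : Fintype.card F = 2 ^ n := hcard.trans hn
      rw [← this, hk]; exact dvd_pow_self p k.ne_zero
    exact (Nat.prime_dvd_prime_iff_eq hp Nat.prime_two).1 (hp.dvd_of_dvd_pow h1)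
  subst h2
  obtain ⟨f⟩ := nonempty_sl_equiv_psl (F := F)
  exact ⟨F, i1, i2, hpc, ⟨e.trans f.symm⟩⟩

theorem AIHyp.closure_inf_center (h : AIHyp T) : involClosure G ⊓ center G = ⊥ := by
  set M := involClosure G with hM
  by_contra hne
  obtain ⟨p, hp, hpd⟩ := Nat.exists_prime_and_dvd (n := Nat.card ↥(M ⊓ center G))
    (fun e => hne (card_eq_one.1 e))
  have := Fact.mk hp
  have hp2 : p ≠ 2 := by
    rintro rfl
    exact Nat.not_even_iff_odd.2 h.odd_center
      (even_iff_two_dvd.2 (hpd.trans (card_dvd_of_le inf_le_right)))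
  obtain ⟨c, hc⟩ := exists_prime_orderOf_dvd_card' p hpd
  have hcM : (c : G) ∈ M := (mem_inf.1 c.2).1
  set z : M := ⟨c, hcM⟩ with hzdef
  have hzord : orderOf z = p := by rw [hzdef, Subgroup.orderOf_mk, orderOf_coe, hc]
  have hzc : z ∈ center M := mem_center_iff.2 fun m =>
    Subtype.ext (mem_center_iff.1 (mem_inf.1 c.2).2 m)
  have hzd : z ∈ commutator M := by
    have h1 : (commutator M).map M.subtype = ⁅M, M⁆ := Subgroup.map_subtype_commutator M
    obtain ⟨y, hy, hyz⟩ : (c : G) ∈ (commutator M).map M.subtype := h1 ▸ h.closure_le_commutator hcM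
    rwa [show z = y from Subtype.ext hyz.symm]
  obtain ⟨P⟩ : Nonempty (Sylow p M) := inferInstance
  have hzP : z ∈ P := Cfsg.Agent.Lib.Multiplier.central_pElement_mem_sylow P z hzc (k := 1)
    (by rw [pow_one, ← hzord, pow_orderOf_eq_one])
  have hzPP := Cfsg.Agent.Lib.Multiplier.mem_commutator_sylow P z hzc hzd hzP
  obtain ⟨F, _, _, _, ⟨e⟩⟩ := h.exists_field
  let π : M →* Matrix.SpecialLinearGroup (Fin 2) F :=
    e.toMonoidHom.comp ((QuotientGroup.mk' (center G)).comp M.subtype)
  have hcyc : IsCyclic ((P : Subgroup M).map π) := isCyclic_of_isPGroup hp2 _ (P.2.map π)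
  let f : (P : Subgroup M) →* (P : Subgroup M).map π := π.subgroupMap (P : Subgroup M)
  have hker : f.ker ≤ center (P : Subgroup M) := by
    intro x hx
    have h1 : π x = 1 := congrArg Subtype.val hx
    have h2 : ((x : M) : G) ∈ center G := by
      rw [← QuotientGroup.eq_one_iff]
      exact e.injective (h1.trans e.map_one.symm)
    exact mem_center_iff.2 fun y => Subtype.ext (Subtype.ext (mem_center_iff.1 h2 _))
  have hbot : ⁅(P : Subgroup M), (P : Subgroup M)⁆ = ⊥ := by
    rw [commutator_eq_bot_iff_le_centralizer]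
    intro x hx
    rw [mem_centralizer_iff]
    intro y hy
    exact congrArg Subtype.val (f.isMulCommutative_of_isCyclic_of_ker_le_center hker |>.is_comm.comm
      (⟨y, hy⟩ : (P : Subgroup M)) ⟨x, hx⟩)
  rw [hbot, Subgroup.mem_bot] at hzPP
  rw [hzPP, orderOf_one] at hzord
  exact hp.one_lt.ne hzord

/-- `G ≅ SL(2, F) × A` with `F` of characteristic two and `A` abelian of odd order. -/
theorem AIHyp.nonempty_mulEquiv_sl_prod (h : AIHyp T) :
    ∃ (F : Type) (_ : Field F) (_ : Fintype F) (A : Type) (_ : CommGroup A) (_ : Finite A),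
      CharP F 2 ∧ Odd (Nat.card A) ∧ Nonempty (G ≃* Matrix.SpecialLinearGroup (Fin 2) F × A) := by
  obtain ⟨F, i1, i2, i3, ⟨e⟩⟩ := h.exists_field
  set M := involClosure G with hM
  have hinf := h.closure_inf_center
  let π : M →* G ⧸ center G := (QuotientGroup.mk' (center G)).comp M.subtype
  have hπ : Function.Bijective π := by
    refine ⟨(injective_iff_map_eq_one π).2 fun m hm => ?_, fun x => ?_⟩
    · have : (m : G) ∈ M ⊓ center G := ⟨m.2, (QuotientGroup.eq_one_iff (N := center G) (m : G)).1 hm⟩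
      rw [hinf, Subgroup.mem_bot] at this
      exact Subtype.ext this
    · obtain ⟨g, rfl⟩ := QuotientGroup.mk_surjective x
      obtain ⟨m, hm, hc⟩ := h.exists_mem_closure g
      exact ⟨⟨m, hm⟩, QuotientGroup.eq.2 hc⟩
  let ψ : M × center G →* G :=
    { toFun := fun q => (q.1 : G) * (q.2 : G)
      map_one' := by simp
      map_mul' := fun q r => by
        show ((q.1 : G) * r.1) * ((q.2 : G) * r.2) = _
        have : (r.1 : G) * q.2 = q.2 * r.1 := mem_center_iff.1 q.2.2 r.1
        rw [mul_assoc (q.1 : G), ← mul_assoc (r.1 : G), this]; group }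
  have hψ : Function.Bijective ψ := by
    refine ⟨(injective_iff_map_eq_one ψ).2 ?_, fun g => ?_⟩
    · rintro ⟨m, c⟩ hmc
      have hmc' : (m : G) * c = 1 := hmc
      have h0 : (m : G) ∈ center G := by
        rw [eq_inv_of_mul_eq_one_left hmc']; exact inv_mem c.2
      have h1 : (m : G) ∈ M ⊓ center G := mem_inf.2 ⟨m.2, h0⟩
      rw [hinf, Subgroup.mem_bot] at h1
      rw [h1, one_mul] at hmc'
      exact Prod.ext (Subtype.ext h1) (Subtype.ext hmc')
    · obtain ⟨m, hm, hc⟩ := h.exists_mem_closure g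
      exact ⟨(⟨m, hm⟩, ⟨_, hc⟩), mul_inv_cancel_left m g⟩
  let cg : CommGroup (center G) :=
    { (inferInstance : Group (center G)) with
      mul_comm := fun a b => Subtype.ext (mem_center_iff.1 b.2 a) }
  let A := Fusion.EACentralizers.Model (Nat.card (center G))
  let eA : center G ≃ A := (Finite.equivFin _).trans (Fusion.EACentralizers.modelEquiv _)
  let iA : CommGroup A := eA.symm.commGroup
  let eM : A ≃* center G := eA.symm.mulEquiv
  refine ⟨F, i1, i2, A, iA, Finite.of_equiv _ eA, i3, ?_,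
    ⟨(MulEquiv.ofBijective ψ hψ).symm.trans
      (((MulEquiv.ofBijective π hπ).trans e).prodCongr eM.symm)⟩⟩
  rw [← Nat.card_congr eA]; exact h.odd_center

end Cfsg.Agent.Lib.SuzukiAbelian
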