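import Cfsg.Agent.Lib.Fusion.Swappers
import Cfsg.Agent.Lib.Fusion.EAField
import Cfsg.Agent.Lib.PGroups.UniqueInvolution

/-!
# Groups in which every involution centralizer is abelian

`AIHyp T`: the Sylow 2-subgroup `T` is neither cyclic nor normal and every involution centralizer
is abelian. Then the involutions of `T` share the centralizer `A = C(T)`, and `H = N(T)` is
strongly embedded, with `H ⊓ H^u` transitive on the involutions of `H`.
-/

set_option autoImplicit false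

namespace Cfsg.Agent.Lib.SuzukiAbelian

open Subgroup
open Cfsg.Agent.Lib.Fusion.EACentralizers (nrm)

open Cfsg.Agent.Lib.Involutions.Basic (invol_iff invol_mul_self invol_ne_one invol_inv orderOf_conj_eq)
open Cfsg.Agent.Lib.Involutions.StronglyEmbedded (of_forall_conj mem_conj_iff)

variable {G : Type*} [Group G]

/-- The standing hypothesis. -/
structure AIHyp (T : Sylow 2 G) : Prop where
  nc : ¬ IsCyclic (T : Subgroup G)
  nn : ¬ (T : Subgroup G).Normal
  hC : ∀ t : G, orderOf t = 2 → IsMulCommutative (centralizer ({t} : Set G))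

/-- `A = C(T)`. -/
def cen (T : Sylow 2 G) : Subgroup G := centralizer ((T : Subgroup G) : Set G)

/-- Two elements centralizing the same involution commute. -/
theorem AIHyp.comm_of_commute {T : Sylow 2 G} (h : AIHyp T) {t x y : G} (ht : orderOf t = 2)
    (hx : x * t = t * x) (hy : y * t = t * y) : x * y = y * x :=
  congrArg Subtype.val ((h.hC t ht).is_comm.comm ⟨x, mem_centralizer_singleton_iff.2 hx⟩
    ⟨y, mem_centralizer_singleton_iff.2 hy⟩)

theorem mem_cen {T : Sylow 2 G} {x : G} : x ∈ cen T ↔ ∀ s ∈ T, s * x = x * s :=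
  mem_centralizer_iff

/-- `A` is invariant under `H`. -/
theorem conj_mem_cen {T : Sylow 2 G} {g x : G} (hg : g ∈ nrm T) (hx : x ∈ cen T) :
    g * x * g⁻¹ ∈ cen T := by
  rw [mem_cen] at hx ⊢
  intro s hs
  have h1 : g⁻¹ * s * g ∈ T := by
    have := (mem_normalizer_iff.1 (inv_mem hg) s).1 hs
    rwa [inv_inv] at this
  have h2 := hx _ h1
  calc s * (g * x * g⁻¹) = g * ((g⁻¹ * s * g) * x) * g⁻¹ := by group
    _ = g * (x * (g⁻¹ * s * g)) * g⁻¹ := by rw [h2]
    _ = g * x * g⁻¹ * s := by group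

theorem cen_le_nrm {T : Sylow 2 G} : cen T ≤ nrm T := by
  intro x hx
  rw [mem_cen] at hx
  refine mem_normalizer_iff.2 fun s => ⟨fun hs => ?_, fun hs => ?_⟩
  · rw [← hx s hs, mul_inv_cancel_right]; exact hs
  · have h1 : s = x * s * x⁻¹ := by
      have := hx _ hs
      have h2 : x * s = x * (x * s * x⁻¹) := by rw [← this]; group
      exact mul_left_cancel h2
    rw [h1]; exact hs

variable [Finite G] {T : Sylow 2 G}

theorem AIHyp.ne_bot (h : AIHyp T) : (T : Subgroup G) ≠ ⊥ := fun e =>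
  h.nn (by rw [e]; infer_instance)

theorem AIHyp.exists_central (h : AIHyp T) :
    ∃ z : G, orderOf z = 2 ∧ z ∈ T ∧ (T : Subgroup G) ≤ centralizer ({z} : Set G) := by
  have hnt : Nontrivial (T : Subgroup G) := (nontrivial_iff_ne_bot _).2 h.ne_bot
  have := T.2.center_nontrivial
  have h2 : 2 ∣ Nat.card (center (T : Subgroup G)) := by
    obtain ⟨n, hn⟩ := (T.2.to_subgroup (center (T : Subgroup G))).exists_card_eq
    have h1 := Finite.one_lt_card (α := center (T : Subgroup G))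
    rw [hn] at h1 ⊢
    exact dvd_pow_self 2 fun h0 => by simp [h0] at h1
  obtain ⟨z, hz⟩ := exists_prime_orderOf_dvd_card' 2 h2
  refine ⟨((z : (T : Subgroup G)) : G), ?_, (z : (T : Subgroup G)).2, ?_⟩
  · rw [orderOf_coe, orderOf_coe, hz]
  · intro x hx
    rw [mem_centralizer_singleton_iff]
    exact congrArg Subtype.val ((mem_center_iff.1 z.2) ⟨x, hx⟩)

theorem AIHyp.comm (h : AIHyp T) {s t : G} (hs : s ∈ T) (ht : t ∈ T) : s * t = t * s := by
  obtain ⟨z, hz, -, hle⟩ := h.exists_central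
  exact h.comm_of_commute hz (mem_centralizer_singleton_iff.1 (hle hs))
    (mem_centralizer_singleton_iff.1 (hle ht))

theorem AIHyp.T_le_cen (h : AIHyp T) : (T : Subgroup G) ≤ cen T := fun _ hx =>
  mem_cen.2 fun _ hs => h.comm hs hx

/-- Every involution of `T` has centralizer `A`. -/
theorem AIHyp.mem_cen_iff (h : AIHyp T) {t x : G} (ht : t ∈ T) (ht2 : orderOf t = 2) :
    x * t = t * x ↔ x ∈ cen T := by
  refine ⟨fun hx => mem_cen.2 fun s hs => ?_, fun hx => (mem_cen.1 hx t ht).symm⟩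
  exact h.comm_of_commute ht2 (h.comm hs ht) hx

theorem AIHyp.cen_comm (h : AIHyp T) {x y : G} (hx : x ∈ cen T) (hy : y ∈ cen T) :
    x * y = y * x := by
  obtain ⟨z, hz, hzT, -⟩ := h.exists_central
  exact h.comm_of_commute hz ((h.mem_cen_iff hzT hz).2 hx) ((h.mem_cen_iff hzT hz).2 hy)

theorem AIHyp.invol_mem (_h : AIHyp T) {t : G} (ht : orderOf t = 2) (htN : t ∈ nrm T) : t ∈ T :=
  Cfsg.Agent.Lib.Fusion.EACentralizers.invol_mem_of_mem_nrm ht htN

theorem AIHyp.mem_nrm_of_conj_mem (h : AIHyp T) {t g : G} (ht : t ∈ T) (ht2 : orderOf t = 2)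
    (hg : g * t * g⁻¹ ∈ T) : g ∈ nrm T := by
  show g ∈ normalizer _
  apply Cfsg.Agent.Lib.Fusion.Alperin.mem_normalizer_of_conjS_eq
  have hsub : Cfsg.Agent.Lib.Fusion.Alperin.conjS g (T : Subgroup G) ≤ nrm T := by
    intro x hx
    rw [Cfsg.Agent.Lib.Fusion.Alperin.mem_conjS] at hx
    refine cen_le_nrm ((h.mem_cen_iff hg ((orderOf_conj_eq g t).trans ht2)).1 ?_)
    have := congrArg (fun y => g * y * g⁻¹) (h.comm hx ht)
    simpa [mul_assoc] using this
  refine eq_of_le_of_card_ge (fun x hx => ?_) (Cfsg.Agent.Lib.Fusion.Alperin.card_conjS g _).ge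
  have hpc : IsPGroup 2 (Cfsg.Agent.Lib.Fusion.Alperin.conjS g (T : Subgroup G)) :=
    T.2.map _
  have := T.3 (hpc.to_sup_of_normal_right' T.2 hsub) le_sup_right
  exact this.le (mem_sup_left hx)

theorem AIHyp.isStronglyEmbedded (h : AIHyp T) : Cfsg.IsStronglyEmbedded (nrm T) := by
  obtain ⟨z, hz, hzT, -⟩ := h.exists_central
  refine of_forall_conj (fun e => h.nn (normalizer_eq_top_iff.1 e)) ?_ fun t htH ht g hg => ?_
  · rw [even_iff_two_dvd, ← hz]
    exact orderOf_dvd_natCard _ (le_normalizer hzT)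
  · exact h.mem_nrm_of_conj_mem (h.invol_mem ht htH) ht
      (h.invol_mem ((orderOf_conj_eq g t).trans ht) hg)

theorem AIHyp.exists_invol_notMem (h : AIHyp T) : ∃ u : G, orderOf u = 2 ∧ u ∉ nrm T := by
  obtain ⟨z, hz, hzT, -⟩ := h.exists_central
  obtain ⟨g, -, hg⟩ := SetLike.exists_of_lt (lt_top_iff_ne_top.2 h.isStronglyEmbedded.1)
  refine ⟨g * z * g⁻¹, (orderOf_conj_eq g z).trans hz, fun hmem => hg ?_⟩
  exact h.mem_nrm_of_conj_mem hzT hz (h.invol_mem ((orderOf_conj_eq g z).trans hz) hmem)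

/-- Every coset of `H` other than `H` contains an involution. -/
theorem AIHyp.exists_invol_coset (h : AIHyp T) {g : G} (hg : g ∉ nrm T) :
    ∃ v : G, orderOf v = 2 ∧ g⁻¹ * v ∈ nrm T := by
  obtain ⟨z, hz, hzT, -⟩ := h.exists_central
  obtain ⟨w, hw, -, hw'⟩ := Cfsg.Agent.Lib.Fusion.Swappers.exists_swap h.isStronglyEmbedded hg
    hz (le_normalizer hzT) hz (le_normalizer hzT)
  exact ⟨w, hw, hw'⟩

theorem AIHyp.exists_conj (h : AIHyp T) {u z : G} (hu : orderOf u = 2) (hz : orderOf z = 2) :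
    ∃ k : G, k * u * k⁻¹ = z :=
  isConj_iff.1 (Cfsg.Agent.Lib.Involutions.StronglyEmbedded.isConj_involutions h.isStronglyEmbedded hu hz)

/-- `T` has more than one involution. -/
theorem AIHyp.exists_second_invol (h : AIHyp T) (z : G) (hz : orderOf z = 2) :
    ∃ t : G, orderOf t = 2 ∧ t ∈ T ∧ t ≠ z := by
  by_contra! hone
  have hT : IsMulCommutative (T : Subgroup G) :=
    ⟨⟨fun a b => Subtype.ext (h.comm a.2 b.2)⟩⟩
  have h4 := Cfsg.Agent.Lib.PGroups.sq_le_card_omegaOne (p := 2) hT T.2 h.nc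
  have hle : Cfsg.omegaOne 2 (T : Subgroup G) ≤ zpowers z := by
    rw [Cfsg.omegaOne, closure_le]
    rintro x ⟨hxT, hx2⟩
    by_cases hx : x = 1
    · simp [hx]
    · rw [hone x (orderOf_eq_prime hx2 hx) hxT]; exact mem_zpowers z
  have h2 := card_le_of_le hle
  rw [Nat.card_zpowers, hz] at h2
  omega

/-- `H ⊓ H^u`, written with the involution `u`. -/
theorem mem_two {u x : G} (hu : orderOf u = 2) :
    x ∈ Cfsg.Agent.Lib.Fusion.EACentralizers.two T u ↔ x ∈ nrm T ∧ u * x * u ∈ nrm T := by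
  rw [Cfsg.Agent.Lib.Fusion.EACentralizers.mem_two, invol_inv hu]

/-- An element of `H` is in `A` times a product `u w` of `u` and an involution, lying in `H ⊓ H^u`. -/
theorem AIHyp.decomp (h : AIHyp T) {u x : G} (hu : orderOf u = 2) (huH : u ∉ nrm T)
    (hx : x ∈ nrm T) :
    ∃ d ∈ Cfsg.Agent.Lib.Fusion.EACentralizers.two T u, d⁻¹ * x ∈ cen T ∧
      ∃ w : G, orderOf w = 2 ∧ d = u * w := by
  obtain ⟨z, hz, hzT, -⟩ := h.exists_central
  have hzH : z ∈ nrm T := le_normalizer hzT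
  obtain ⟨w, hw, hws, hwH⟩ := Cfsg.Agent.Lib.Fusion.Swappers.exists_swap h.isStronglyEmbedded huH
    hz hzH ((orderOf_conj_eq x z).trans hz) (mul_mem (mul_mem hx hzH) (inv_mem hx))
  rw [invol_inv hu] at hwH
  refine ⟨u * w, (mem_two hu).2 ⟨hwH, ?_⟩, ?_, w, hw, rfl⟩
  · have : u * (u * w) * u = (u * w)⁻¹ := by
      rw [mul_inv_rev, invol_inv hu, invol_inv hw, ← mul_assoc u u w, invol_mul_self hu, one_mul]
    rw [this]; exact inv_mem hwH
  · refine (h.mem_cen_iff hzT hz).1 ?_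
    have h1 : (u * w) * z * (u * w)⁻¹ = x * z * x⁻¹ := by
      calc (u * w) * z * (u * w)⁻¹ = u * (w * z * w⁻¹) * u⁻¹ := by group
        _ = u * (u * (x * z * x⁻¹) * u⁻¹) * u⁻¹ := by rw [hws]
        _ = x * z * x⁻¹ := by
          rw [invol_inv hu]
          have huu := invol_mul_self hu
          calc u * (u * (x * z * x⁻¹) * u) * u = (u * u) * (x * z * x⁻¹) * (u * u) := by group
            _ = _ := by rw [huu, one_mul, mul_one]
    have h2 := congrArg (fun y => (u * w)⁻¹ * y * x) h1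
    simpa [mul_assoc] using h2.symm

/-- `|H| = |I(H)| |A|`. -/
theorem AIHyp.card_nrm (h : AIHyp T) :
    Nat.card (nrm T) = Nat.card (Fusion.Swappers.Inv (nrm T)) * Nat.card (cen T) := by
  obtain ⟨z, hz, hzT, -⟩ := h.exists_central
  obtain ⟨u, hu, huH⟩ := h.exists_invol_notMem
  have hzH : z ∈ nrm T := le_normalizer hzT
  let f : nrm T → Fusion.Swappers.Inv (nrm T) := fun x =>
    ⟨(x : G) * z * (x : G)⁻¹, (orderOf_conj_eq _ z).trans hz,
      mul_mem (mul_mem x.2 hzH) (inv_mem x.2)⟩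
  have hsurj : Function.Surjective f := by
    intro t
    obtain ⟨d, hd, hdt⟩ := Cfsg.Agent.Lib.Fusion.Swappers.two_transitive h.isStronglyEmbedded hu
      huH hz hzH t.2.1 t.2.2
    exact ⟨⟨d, (mem_inf.1 hd).1⟩, Subtype.ext hdt⟩
  choose s hs using hsurj
  rw [← Nat.card_prod]
  refine (Nat.card_eq_of_bijective (fun p : Fusion.Swappers.Inv (nrm T) × cen T =>
    (⟨(s p.1 : G) * p.2, mul_mem (s p.1).2 (cen_le_nrm p.2.2)⟩ : nrm T)) ⟨?_, ?_⟩).symm
  · rintro ⟨t, a⟩ ⟨t', a'⟩ he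
    have he' : (s t : G) * a = (s t' : G) * a' := congrArg Subtype.val he
    have hfa : ∀ (t : Fusion.Swappers.Inv (nrm T)) (a : cen T),
        (s t : G) * a * z * ((s t : G) * a)⁻¹ = t := by
      intro t a
      have h1 : (a : G) * z = z * a := (h.mem_cen_iff hzT hz).2 a.2
      have h2 : (s t : G) * z * (s t : G)⁻¹ = t := congrArg Subtype.val (hs t)
      rw [mul_assoc (s t : G), h1, ← mul_assoc, mul_inv_rev]
      conv_rhs => rw [← h2]
      group
    have ht : t = t' := Subtype.ext (by rw [← hfa t a, he', hfa t' a'])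
    subst ht
    exact Prod.ext rfl (Subtype.ext (mul_left_cancel he'))
  · intro x
    refine ⟨(f x, ⟨(s (f x) : G)⁻¹ * x, (h.mem_cen_iff hzT hz).1 ?_⟩), Subtype.ext ?_⟩
    · have h2 : (s (f x) : G) * z * (s (f x) : G)⁻¹ = (x : G) * z * (x : G)⁻¹ :=
        congrArg Subtype.val (hs (f x))
      have h3 := congrArg (fun y => (s (f x) : G)⁻¹ * y * x) h2
      simpa [mul_assoc] using h3.symm
    · simp

/-- Elementary abelian centralizers. -/
theorem AIHyp.toEAHyp (h : AIHyp T) (hA : cen T ≤ (T : Subgroup G))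
    (h2 : ∀ x ∈ T, x ^ 2 = 1) : Cfsg.Agent.Lib.Fusion.EACentralizers.EAHyp T := by
  refine ⟨h.nc, h.nn, fun t ht => ⟨h.hC t ht, fun c hc => ?_⟩⟩
  obtain ⟨z, hz, hzT, -⟩ := h.exists_central
  obtain ⟨k, hk⟩ := h.exists_conj ht hz
  have h1 : (k * c * k⁻¹) * z = z * (k * c * k⁻¹) := by
    rw [← hk]
    calc k * c * k⁻¹ * (k * t * k⁻¹) = k * (c * t) * k⁻¹ := by group
      _ = k * (t * c) * k⁻¹ := by rw [mem_centralizer_singleton_iff.1 hc]
      _ = k * t * k⁻¹ * (k * c * k⁻¹) := by group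
  have h3 := h2 _ (hA ((h.mem_cen_iff hzT hz).1 h1))
  rw [conj_pow] at h3
  exact conj_eq_one_iff.1 h3

end Cfsg.Agent.Lib.SuzukiAbelian
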