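import Cfsg.Agent.Lib.Fusion.Swappers
import Cfsg.Agent.Lib.Fusion.EATransitive

/-!
# Odd order subgroups of groups with elementary abelian involution centralizers

Such a subgroup has smaller order than the number `q² - 1` of involutions.
-/

set_option autoImplicit false

namespace Cfsg.Agent.Lib.SuzukiAbelian

open Subgroup MulAction
open Cfsg.Agent.Lib.Fusion.EACentralizers

variable {G : Type*} [Group G] [Finite G] {T : Sylow 2 G}

theorem card_points (h : EAHyp T) : Nat.card (G ⧸ nrm T) = Nat.card T + 1 := by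
  obtain ⟨u, hu, huH⟩ := h.exists_invol_notMem
  classical
  have : Fintype (G ⧸ nrm T) := Fintype.ofFinite _
  have e : T ≃ {x : G ⧸ nrm T // x ≠ QuotientGroup.mk 1} :=
    Equiv.ofBijective (fun t => ⟨QuotientGroup.mk ((t : G) * u),
      mk_one_ne (EAHyp.tu_notMem huH t.2)⟩)
      ⟨fun s t hst => Subtype.ext (h.coset_rep_unique hu huH s.2 t.2 (congrArg Subtype.val hst)),
        fun x => by
          obtain ⟨t, ht, he⟩ := h.exists_rep_point hu huH x.2
          exact ⟨⟨t, ht⟩, Subtype.ext he.symm⟩⟩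
  rw [Nat.card_congr e, Nat.card_eq_fintype_card, Nat.card_eq_fintype_card,
    Fintype.card_subtype_compl, Fintype.card_subtype_eq]
  have : 0 < Fintype.card (G ⧸ nrm T) := Fintype.card_pos
  omega

theorem card_invol_eq (h : EAHyp T) :
    Nat.card {i : G // orderOf i = 2} = (Nat.card T + 1) * (Nat.card T - 1) := by
  rw [Cfsg.Agent.Lib.Fusion.Swappers.card_invol h.isStronglyEmbedded, card_points h]
  congr 1
  rw [← card_nontriv]
  exact Nat.card_congr (Equiv.subtypeEquivRight fun t =>
    ⟨fun ht => ⟨invol_mem_of_mem_nrm ht.1 ht.2, ne_one_of_orderOf ht.1⟩,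
      fun ht => ⟨h.orderOf_mem ht.1 ht.2, T_le ht.1⟩⟩)

omit [Finite G] in
theorem odd_coprime_two_pow {a n : ℕ} (ha : Odd a) : Nat.Coprime a (2 ^ n) :=
  (Nat.Coprime.pow_right n (Nat.coprime_two_right.2 ha))

/-- A subgroup of odd order is smaller than the number of involutions. -/
theorem card_odd_lt (h : EAHyp T) {X : Subgroup G} (hX : Odd (Nat.card X)) :
    Nat.card X < Nat.card {i : G // orderOf i = 2} := by
  rw [card_invol_eq h]
  by_contra! hle
  obtain ⟨u, hu, huH⟩ := h.exists_invol_notMem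
  obtain ⟨n, hn⟩ := T.2.exists_card_eq
  have hq : Nat.card T = 2 ^ n := hn
  set q := Nat.card T with hqdef
  have hq4 : 4 ≤ q := h.card_T_ge
  have hG : Nat.card G = (q + 1) * (q * (q - 1)) := by
    rw [← Subgroup.index_mul_card (nrm T), index_eq_card, card_points h, h.card_nrm]
  have hXG : Nat.card X ∣ (q + 1) * (q - 1) * q := by
    have := Subgroup.card_subgroup_dvd_card X
    rwa [hG, show (q + 1) * (q * (q - 1)) = (q + 1) * (q - 1) * q by ring] at this
  have hXc : Nat.Coprime (Nat.card X) q := by rw [hq]; exact odd_coprime_two_pow hX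
  have hXeq : Nat.card X = (q + 1) * (q - 1) :=
    le_antisymm (Nat.le_of_dvd (Nat.mul_pos (by omega) (by omega)) (hXc.dvd_of_dvd_mul_right hXG))
      hle
  set o : G ⧸ nrm T := QuotientGroup.mk 1 with ho
  have hmemo : ∀ g : G, g • o = o ↔ g ∈ nrm T := fun g => by
    rw [ho, Cfsg.Agent.Lib.Fusion.Swappers.smul_one_coset,
      Cfsg.Agent.Lib.Fusion.Swappers.mk_eq_one_iff]
  set S := MulAction.stabilizer X o with hS
  have hSodd : Odd (Nat.card S) := hX.of_dvd_nat (Subgroup.card_subgroup_dvd_card S)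
  have hSle : Nat.card S ≤ q - 1 := by
    have h1 : Nat.card S ∣ Nat.card (nrm T) := by
      let f : S →* nrm T :=
        { toFun := fun x => ⟨((x : X) : G), (hmemo _).1 x.2⟩
          map_one' := rfl
          map_mul' := fun _ _ => rfl }
      exact Subgroup.card_dvd_of_injective f fun x y hxy =>
        Subtype.ext (Subtype.ext (congrArg (fun z : nrm T => (z : G)) hxy : ((x : X) : G) = ((y : X) : G)))
    rw [h.card_nrm, mul_comm] at h1
    refine Nat.le_of_dvd (by omega) (Nat.Coprime.dvd_of_dvd_mul_right ?_ h1)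
    rw [← hqdef, hq]; exact odd_coprime_two_pow hSodd
  have horb : Nat.card (orbit X o) * Nat.card S = Nat.card X := by
    rw [← Nat.card_prod]
    exact Nat.card_congr (MulAction.orbitProdStabilizerEquivGroup X o)
  have horb_le : Nat.card (orbit X o) ≤ q + 1 := by
    rw [← card_points h]
    exact Nat.card_le_card_of_injective _ Subtype.val_injective
  have hScard : Nat.card S = q - 1 := by
    refine le_antisymm hSle ?_
    by_contra hlt
    push Not at hlt
    have h1 : Nat.card (orbit X o) * Nat.card S < (q + 1) * (q - 1) :=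
      lt_of_le_of_lt (Nat.mul_le_mul_right _ horb_le) (Nat.mul_lt_mul_of_pos_left hlt (by omega))
    omega
  have horbtop : orbit X o = Set.univ := by
    refine Set.eq_of_subset_of_ncard_le (Set.subset_univ _) ?_ (Set.toFinite _)
    rw [Set.ncard_univ, card_points h, ← Nat.card_coe_set_eq]
    rw [hScard, hXeq] at horb
    exact (Nat.eq_of_mul_eq_mul_right (by omega) horb).ge
  -- the stabiliser is abelian
  have hcomm : ∀ x y : X, x ∈ S → y ∈ S → x * y = y * x := by
    intro x y hx hy
    obtain ⟨d, hd, hdx⟩ := h.decomp hu huH ((hmemo _).1 hx)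
    obtain ⟨e, he, hey⟩ := h.decomp hu huH ((hmemo _).1 hy)
    have hmem : ((y : G) * x)⁻¹ * ((x : G) * y) ∈ T := by
      have h1 : ((y : G) * x)⁻¹ * ((x : G) * y) =
          (d⁻¹ * (x : G))⁻¹ * ((d⁻¹ * (e⁻¹ * (y : G)) * d⁻¹⁻¹))⁻¹ *
            ((d⁻¹ * e⁻¹ * d * e) * ((e⁻¹ * (d⁻¹ * (x : G)) * e⁻¹⁻¹) * (e⁻¹ * (y : G)))) := by group
      rw [h1]
      refine mul_mem (mul_mem (inv_mem hdx) (inv_mem (conj_mem_T (inv_mem (mem_two.1 hd).1) hey))) ?_
      have h2 : d⁻¹ * e⁻¹ * d * e = 1 := by
        rw [mul_assoc, h.two_comm hu huH hd he]; group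
      rw [h2, one_mul]
      exact mul_mem (conj_mem_T (inv_mem (mem_two.1 he).1) hdx) hey
    by_contra hne
    have hne' : ((y : G) * x)⁻¹ * ((x : G) * y) ≠ 1 := fun e' => hne (Subtype.ext
      (inv_mul_eq_one.1 e').symm)
    have h2 := h.orderOf_mem hmem hne'
    have h3 := orderOf_dvd_natCard X
      (mul_mem (inv_mem (mul_mem y.2 x.2)) (mul_mem x.2 y.2) : ((y : G) * x)⁻¹ * ((x : G) * y) ∈ X)
    rw [h2] at h3
    exact Nat.not_even_iff_odd.2 hX (even_iff_two_dvd.2 h3)
  -- an element of prime order of the stabiliser fixes exactly one further point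
  obtain ⟨p, hp, hpS⟩ := Nat.exists_prime_and_dvd (n := Nat.card S) (by omega)
  have := Fact.mk hp
  have hp3 : 3 ≤ p := by
    rcases hp.two_le.eq_or_lt with h2 | h2
    · exact absurd (even_iff_two_dvd.2 (h2 ▸ hpS)) (Nat.not_even_iff_odd.2 hSodd)
    · omega
  obtain ⟨d, hdp⟩ := exists_prime_orderOf_dvd_card' p hpS
  set dg : G := ((d : X) : G) with hdg
  have hdp' : orderOf dg = p := by rw [hdg, orderOf_coe, orderOf_coe, hdp]
  have hdo : dg • o = o := d.2
  obtain ⟨b, hb, hbo⟩ : ∃ b, dg • b = b ∧ b ≠ o := by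
    by_contra! hcon
    have hZ : IsPGroup p (zpowers dg) :=
      IsPGroup.of_card (n := 1) (by rw [Nat.card_zpowers, hdp', pow_one])
    have hfix := hZ.card_modEq_card_fixedPoints (G ⧸ nrm T)
    have hone : fixedPoints (zpowers dg) (G ⧸ nrm T) = {o} := by
      ext x
      refine ⟨fun hx => hcon x (hx ⟨dg, mem_zpowers dg⟩), ?_⟩
      rintro rfl ⟨g, hg⟩
      exact zpowers_le.2 (MulAction.mem_stabilizer_iff.2 hdo) hg
    rw [hone, Nat.card_coe_set_eq, Set.ncard_singleton, card_points h] at hfix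
    have h1 : p ∣ q := by
      have := (Nat.modEq_iff_dvd' (show 1 ≤ q + 1 by omega)).1 hfix.symm
      simpa using this
    rw [hq] at h1
    have := (Nat.prime_dvd_prime_iff_eq hp Nat.prime_two).1 (hp.dvd_of_dvd_pow h1)
    omega
  have hdne : dg ≠ 1 := fun e => by rw [e, orderOf_one] at hdp'; omega
  -- the whole stabiliser fixes `b`
  have hSb : ∀ x : X, x ∈ S → (x : G) • b = b := by
    intro x hx
    by_contra hne
    have hc : (x : G) * dg = dg * x := congrArg Subtype.val (hcomm x d hx d.2)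
    have h1 : dg • ((x : G) • b) = (x : G) • b := by rw [← mul_smul, ← hc, mul_smul, hb]
    have h2 : (x : G) • b ≠ o := fun e => hbo (by
      have hxo : (x : G) • o = o := hx
      exact MulAction.injective (x : G) (e.trans hxo.symm))
    exact hdne (h.sharp hbo.symm h2.symm (Ne.symm hne) hdo hb h1)
  obtain ⟨g, hg⟩ : b ∈ orbit X o := horbtop ▸ Set.mem_univ b
  have hgo : (g : G) • o = b := hg
  have hd' : g⁻¹ * d * g ∈ S := by
    show ((g⁻¹ * d * g : X) : G) • o = o
    push_cast
    rw [mul_smul, mul_smul, hgo, show ((d : X) : G) • b = b from hb, inv_smul_eq_iff, hgo]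
  have hgb : (g : G) • b = o := by
    by_contra hne
    have h1 := hSb _ hd'
    push_cast at h1
    rw [mul_smul, mul_smul, inv_smul_eq_iff] at h1
    refine hdne (h.sharp hbo.symm (Ne.symm hne) (fun e => hbo ?_) hdo hb h1)
    exact (MulAction.injective (g : G) (hgo.trans e)).symm
  have hg2 : g ^ 2 ∈ S := by
    show ((g ^ 2 : X) : G) • o = o
    push_cast
    rw [pow_two, mul_smul, hgo, hgb]
  have hgS : g ∈ S := by
    obtain ⟨k, hk⟩ := hX.of_dvd_nat (orderOf_dvd_natCard g)
    have h1 : g = (g ^ 2) ^ (k + 1) := by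
      rw [← pow_mul, show 2 * (k + 1) = orderOf g + 1 by omega, pow_succ, pow_orderOf_eq_one,
        one_mul]
    rw [h1]; exact pow_mem hg2 _
  exact hbo (hgo.symm.trans hgS)

end Cfsg.Agent.Lib.SuzukiAbelian
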