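import Cfsg.Agent.Lib.SuzukiAbelian.Small
import Cfsg.Agent.Lib.SuzukiAbelian.OddSubgroup

/-!
# `C(T) = T × Z(G)` and `G ⧸ Z(G)` is a group with elementary abelian involution centralizers

By induction on `|G|`: if `C(a) ≰ H` for some nontrivial `a ∈ A` then `L = C(a)` is strongly
embedded, and the `q² - 1` involutions of a coset of `L` give an odd order subgroup of
`L ⧸ Z(L)` of order at least `q² - 1`, which does not exist.
-/

set_option autoImplicit false

universe u

namespace Cfsg.Agent.Lib.SuzukiAbelian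

open Subgroup
open Cfsg.Agent.Lib.Fusion.EACentralizers (nrm two EAHyp)
open Cfsg.Agent.Lib.Involutions.Basic (invol_mul_self invol_ne_one invol_inv orderOf_conj_eq)

variable {G : Type u} [Group G] [Finite G] {T : Sylow 2 G}

/-- The image of `T` in `G ⧸ Z(G)`. -/
noncomputable def imageSylow (T : Sylow 2 G) : Sylow 2 (G ⧸ center G) :=
  T.mapSurjective (f := QuotientGroup.mk' (center G)) (QuotientGroup.mk'_surjective _)

theorem AIHyp.center_le_cen (_h : AIHyp T) : center G ≤ cen T := fun _ hx =>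
  mem_cen.2 fun s _ => mem_center_iff.1 hx s

theorem AIHyp.odd_center (h : AIHyp T) : Odd (Nat.card (center G)) := by
  by_contra he
  rw [Nat.not_odd_iff_even, even_iff_two_dvd] at he
  obtain ⟨c, hc⟩ := exists_prime_orderOf_dvd_card' 2 he
  have hc2 : orderOf (c : G) = 2 := by rw [orderOf_coe]; exact hc
  obtain ⟨u, hu, huH⟩ := h.exists_invol_notMem
  have hcT : (c : G) ∈ T := h.invol_mem hc2 (cen_le_nrm (h.center_le_cen c.2))
  exact huH (cen_le_nrm ((h.mem_cen_iff hcT hc2).1 (mem_center_iff.1 c.2 u)))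

/-- A central element which is a quotient of two 2-elements is trivial, in particular. -/
theorem AIHyp.center_sq (h : AIHyp T) {c : G} (hc : c ∈ center G) (h2 : c ^ 2 = 1) : c = 1 :=
  eq_one_of_odd_pow h.odd_center hc h2

theorem AIHyp.center_inf (h : AIHyp T) {c : G} (hc : c ∈ center G) (hcT : c ∈ T) : c = 1 := by
  obtain ⟨n, hn⟩ := T.2 ⟨c, hcT⟩
  have hn' : c ^ 2 ^ n = 1 := by simpa using congrArg Subtype.val hn
  clear hn hcT
  induction n generalizing c with
  | zero => simpa using hn'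
  | succ n ih =>
    rw [pow_succ', pow_mul] at hn'
    exact h.center_sq hc (ih (pow_mem hc 2) hn')

/-- An element with `[z, t]` central for an involution `t` centralizes `t`. -/
theorem AIHyp.comm_of_comm_mod_center (h : AIHyp T) {t x : G} (ht : orderOf t = 2)
    (hx : (x * t)⁻¹ * (t * x) ∈ center G) : x * t = t * x := by
  have htt := invol_mul_self ht
  set c := (x * t)⁻¹ * (t * x) with hc
  have hz : ∀ y, y * c = c * y := mem_center_iff.1 hx
  -- `x⁻¹ t x = t c`
  have h1 : x⁻¹ * t * x = t * c := by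
    rw [hc, mul_inv_rev, invol_inv ht]
    calc x⁻¹ * t * x = 1 * x⁻¹ * t * x := by rw [one_mul]
      _ = (t * t) * x⁻¹ * t * x := by rw [htt]
      _ = t * (t * x⁻¹ * (t * x)) := by group
  have h2 : (x⁻¹ * t * x) * (x⁻¹ * t * x) = 1 := by
    calc (x⁻¹ * t * x) * (x⁻¹ * t * x) = x⁻¹ * (t * t) * x := by group
      _ = 1 := by rw [htt]; group
  rw [h1] at h2
  have h3 : c ^ 2 = 1 := by
    rw [← h2, pow_two]
    calc c * c = (t * t) * c * c := by rw [htt, one_mul]
      _ = t * (t * c) * c := by group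
      _ = t * (c * t) * c := by rw [hz t]
      _ = t * c * (t * c) := by group
  rw [h.center_sq hx h3, mul_one] at h1
  calc x * t = x * (x⁻¹ * t * x) := by rw [h1]
    _ = t * x := by group

/-- An involution of `G ⧸ Z(G)` is the image of one of `G`. -/
theorem AIHyp.exists_lift_invol (h : AIHyp T) {x : G ⧸ center G} (hx : orderOf x = 2) :
    ∃ t : G, orderOf t = 2 ∧ (t : G ⧸ center G) = x := by
  obtain ⟨g, rfl⟩ := QuotientGroup.mk_surjective x
  have hg2 : g ^ 2 ∈ center G := by
    rw [← QuotientGroup.eq_one_iff, QuotientGroup.mk_pow, ← hx, pow_orderOf_eq_one]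
  set k := orderOf (g ^ 2) with hk
  have hkodd : Odd k := h.odd_center.of_dvd_nat (orderOf_dvd_natCard _ hg2)
  have hmk : ((g ^ k : G) : G ⧸ center G) = (g : G ⧸ center G) := by
    obtain ⟨j, hj⟩ := hkodd
    rw [hj, pow_succ, pow_mul, QuotientGroup.mk_mul, QuotientGroup.mk_pow,
      (QuotientGroup.eq_one_iff (N := center G) (g ^ 2)).2 hg2, one_pow, one_mul]
  refine ⟨g ^ k, orderOf_eq_prime ?_ ?_, hmk⟩
  · rw [← pow_mul, mul_comm, pow_mul, hk, pow_orderOf_eq_one]
  · intro e
    rw [e, QuotientGroup.mk_one] at hmk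
    rw [← hmk, orderOf_one] at hx
    omega

theorem AIHyp.hyp_quotient (h : AIHyp T) : AIHyp (imageSylow T) := by
  refine ⟨fun hcyc => ?_, fun hn => ?_, fun t ht => ?_⟩
  · apply h.nc
    let f : (T : Subgroup G) →* (imageSylow T : Subgroup (G ⧸ center G)) :=
      (QuotientGroup.mk' (center G)).subgroupMap (T : Subgroup G)
    refine isCyclic_of_injective f ((injective_iff_map_eq_one f).2 fun a ha => Subtype.ext ?_)
    exact h.center_inf ((QuotientGroup.eq_one_iff (N := center G) (a : G)).1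
      (congrArg Subtype.val ha)) a.2
  · apply h.nn
    refine ⟨fun s hs g => ?_⟩
    have h1 := hn.conj_mem _ (mem_map_of_mem (QuotientGroup.mk' (center G)) hs) (g : G ⧸ center G)
    obtain ⟨s', hs', he⟩ := h1
    have he' : ((s' : G) : G ⧸ center G) = ((g * s * g⁻¹ : G) : G ⧸ center G) := he
    rw [QuotientGroup.eq] at he'
    set c := s'⁻¹ * (g * s * g⁻¹) with hc
    have hz : ∀ y, y * c = c * y := mem_center_iff.1 he'
    obtain ⟨n, hn'⟩ := T.2 ⟨s, hs⟩
    obtain ⟨m, hm'⟩ := T.2 ⟨s', hs'⟩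
    have hsn : s ^ 2 ^ n = 1 := by simpa using congrArg Subtype.val hn'
    have hsm : s' ^ 2 ^ m = 1 := by simpa using congrArg Subtype.val hm'
    have hconj : (g * s * g⁻¹) ^ 2 ^ n = 1 := by rw [conj_pow, hsn]; group
    have hcpow : c ^ 2 ^ (n + m) = 1 := by
      have h2 : g * s * g⁻¹ = s' * c := by rw [hc]; group
      have h3 : (g * s * g⁻¹) ^ 2 ^ (n + m) = 1 := by rw [pow_add, pow_mul, hconj, one_pow]
      rw [h2, (show Commute s' c from hz s').mul_pow, pow_add, mul_comm (2 ^ n) (2 ^ m), pow_mul s',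
        hsm, one_pow, one_mul] at h3
      rwa [pow_add, mul_comm]
    have hc1 : c = 1 := by
      have hco : orderOf c ∣ 2 ^ (n + m) := orderOf_dvd_of_pow_eq_one hcpow
      obtain ⟨i, -, hi⟩ := (Nat.dvd_prime_pow Nat.prime_two).1 hco
      rcases i.eq_zero_or_pos with rfl | hpos
      · exact orderOf_eq_one_iff.1 (by simpa using hi)
      · exfalso
        have h4 := orderOf_dvd_natCard _ he'
        rw [hi] at h4
        exact Nat.not_even_iff_odd.2 h.odd_center
          (even_iff_two_dvd.2 ((dvd_pow_self 2 (by omega)).trans h4))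
    rw [← (inv_mul_eq_one.1 hc1)]; exact hs'
  · obtain ⟨t', ht', rfl⟩ := h.exists_lift_invol ht
    refine ⟨⟨fun a b => Subtype.ext ?_⟩⟩
    obtain ⟨x, hx⟩ := QuotientGroup.mk_surjective (a : G ⧸ center G)
    obtain ⟨y, hy⟩ := QuotientGroup.mk_surjective (b : G ⧸ center G)
    have key : ∀ w : G, (w : G ⧸ center G) ∈ centralizer {(t' : G ⧸ center G)} →
        w * t' = t' * w := fun w hw => by
      rw [mem_centralizer_singleton_iff, ← QuotientGroup.mk_mul, ← QuotientGroup.mk_mul,
        QuotientGroup.eq] at hw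
      exact h.comm_of_comm_mod_center ht' hw
    show (a : G ⧸ center G) * b = b * a
    rw [← hx, ← hy, ← QuotientGroup.mk_mul, ← QuotientGroup.mk_mul,
      h.comm_of_commute ht' (key x (by rw [hx]; exact a.2)) (key y (by rw [hy]; exact b.2))]

theorem AIHyp.center_quotient_eq_bot (h : AIHyp T) : center (G ⧸ center G) = ⊥ := by
  rw [eq_bot_iff]
  intro x hx
  obtain ⟨z, rfl⟩ := QuotientGroup.mk_surjective x
  rw [mem_center_iff] at hx
  have hinv : ∀ t : G, orderOf t = 2 → z * t = t * z := fun t ht => by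
    refine h.comm_of_comm_mod_center ht ?_
    rw [← QuotientGroup.eq, QuotientGroup.mk_mul, QuotientGroup.mk_mul]
    exact (hx (t : G ⧸ center G)).symm
  obtain ⟨t, ht, htT, -⟩ := h.exists_central
  obtain ⟨u, hu, huH⟩ := h.exists_invol_notMem
  have hzA : z ∈ cen T := (h.mem_cen_iff htT ht).1 (hinv t ht)
  let C : Subgroup G := centralizer ({z} : Set G)
  have hmem : ∀ y, y ∈ C ↔ y * z = z * y := fun y => mem_centralizer_singleton_iff
  have hI : ∀ s : G, orderOf s = 2 → s ∈ C := fun s hs => (hmem s).2 (hinv s hs).symm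
  have hH : ∀ y ∈ nrm T, y ∈ C := fun y hy => by
    obtain ⟨d, -, hdy, w, hw, rfl⟩ := h.decomp hu huH hy
    have := mul_mem (mul_mem (hI u hu) (hI w hw)) ((hmem _).2 (h.cen_comm hdy hzA))
    rwa [mul_inv_cancel_left] at this
  rw [Subgroup.mem_bot, QuotientGroup.eq_one_iff, mem_center_iff]
  intro g
  refine (hmem g).1 ?_
  by_cases hg : g ∈ nrm T
  · exact hH g hg
  · obtain ⟨v, hv, hgv⟩ := h.exists_invol_coset hg
    have := mul_mem (hI v hv) (hH _ (inv_mem hgv))
    rwa [mul_inv_rev, inv_inv, invol_inv hv, ← mul_assoc, invol_mul_self hv, one_mul] at this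

theorem card_invol_quotient_le (h : AIHyp T) :
    Nat.card {i : G ⧸ center G // orderOf i = 2} ≤ Nat.card {i : G // orderOf i = 2} := by
  refine Nat.card_le_card_of_surjective (fun i : {i : G // orderOf i = 2} =>
    (⟨(i : G), orderOf_eq_prime ?_ ?_⟩ : {i : G ⧸ center G // orderOf i = 2})) ?_
  · rw [← QuotientGroup.mk_pow, pow_two, invol_mul_self i.2, QuotientGroup.mk_one]
  · intro e
    exact invol_ne_one i.2 (h.center_sq ((QuotientGroup.eq_one_iff (N := center G) (i : G)).1 e)
      (by rw [pow_two, invol_mul_self i.2]))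
  · intro x
    obtain ⟨t, ht, he⟩ := h.exists_lift_invol x.2
    exact ⟨⟨t, ht⟩, Subtype.ext he⟩

/-- With trivial centre and no exceptional subgroup in smaller groups, all `C(a)` lie in `H`. -/
theorem small_of_ih (h : AIHyp T) (hZ : center G = ⊥)
    (ih : ∀ (K : Type u) [Group K] [Finite K] (S : Sylow 2 K), Nat.card K < Nat.card G →
      AIHyp S → center K = ⊥ → EAHyp S) : SmallCentralizers T := by
  intro a ha ha1
  by_contra hle
  set L : Subgroup G := centralizer ({a} : Set G) with hL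
  have hmem : ∀ y, y ∈ L ↔ y * a = a * y := fun y => mem_centralizer_singleton_iff
  obtain ⟨z, hz, hzT, -⟩ := h.exists_central
  have hAL : cen T ≤ L := fun x hx => (hmem x).2 (h.cen_comm hx ha)
  have hTL : (T : Subgroup G) ≤ L := h.T_le_cen.trans hAL
  have hLne : L ≠ ⊤ := fun e => ha1 (Subgroup.mem_bot.1 (hZ ▸ mem_center_iff.2 fun g =>
    (hmem g).1 (e ▸ Subgroup.mem_top g)))
  set S := T.subtype hTL with hS
  have hAI : AIHyp S := by
    refine ⟨fun hc => h.nc ?_, fun hn => hle fun x hx => ?_, fun t ht => ⟨⟨fun p q => ?_⟩⟩⟩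
    · exact ((Subgroup.subgroupOfEquivOfLe hTL).isCyclic).1 hc
    · refine mem_normalizer_iff.2 fun s => ⟨fun hs => ?_, fun hs => ?_⟩
      · exact hn.conj_mem ⟨s, hTL hs⟩ (by simpa [S, mem_subgroupOf] using hs) ⟨x, hx⟩
      · have h1 := hn.conj_mem ⟨x * s * x⁻¹, hTL hs⟩ (by simpa [S, mem_subgroupOf] using hs)
          (⟨x, hx⟩⁻¹ : L)
        simpa [S, mem_subgroupOf, mul_assoc] using h1
    · have hp := mem_centralizer_singleton_iff.1 p.2
      have hq := mem_centralizer_singleton_iff.1 q.2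
      exact Subtype.ext (Subtype.ext (h.comm_of_commute (by rw [orderOf_coe]; exact ht)
        (congrArg Subtype.val hp) (congrArg Subtype.val hq)))
  have hcardL : Nat.card L < Nat.card G := by
    refine lt_of_le_of_ne (Nat.card_le_card_of_injective _ L.subtype_injective) fun e => hLne ?_
    exact Subgroup.eq_top_of_card_eq L e
  have hEA : EAHyp (imageSylow S) := ih _ (imageSylow S)
    (lt_of_le_of_lt (Nat.card_le_card_of_surjective _ (QuotientGroup.mk'_surjective (center L))) hcardL)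
    hAI.hyp_quotient hAI.center_quotient_eq_bot
  -- `L` is strongly embedded
  have heven : Even (Nat.card L) := by
    rw [even_iff_two_dvd, ← hz]; exact orderOf_dvd_natCard _ (hTL hzT)
  have hSE : Cfsg.IsStronglyEmbedded L := by
    refine Involutions.StronglyEmbedded.of_forall_conj hLne heven fun t htL ht g hg => ?_
    have hzL : orderOf (⟨z, hTL hzT⟩ : L) = 2 := by rw [Subgroup.orderOf_mk, hz]
    obtain ⟨l, hl⟩ := hAI.exists_conj (u := (⟨t, htL⟩ : L))
      (by rw [Subgroup.orderOf_mk, ht]) hzL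
    obtain ⟨k, hk⟩ := hAI.exists_conj (u := (⟨g * t * g⁻¹, hg⟩ : L))
      (by rw [Subgroup.orderOf_mk, orderOf_conj_eq, ht]) hzL
    have hl' : (l : G) * t * (l : G)⁻¹ = z := congrArg Subtype.val hl
    have hk' : (k : G) * (g * t * g⁻¹) * (k : G)⁻¹ = z := congrArg Subtype.val hk
    have hy : ((k : G) * g * (l : G)⁻¹) * z = z * ((k : G) * g * (l : G)⁻¹) := by
      conv_lhs => rw [← hl']
      conv_rhs => rw [← hk']
      group
    have := mul_mem (mul_mem (inv_mem k.2) (hAL ((h.mem_cen_iff hzT hz).1 hy))) l.2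
    simpa [mul_assoc] using this
  -- the involutions of a coset of `L`
  obtain ⟨g, -, hg⟩ := SetLike.exists_of_lt (lt_top_iff_ne_top.2 hLne)
  have hy : ((g : G) : G ⧸ L) ≠ ((1 : G) : G ⧸ L) := fun e => hg (Fusion.Swappers.mk_eq_one_iff.1 e)
  have hcnt := Fusion.Swappers.card_sw hSE hy
  have hpos : 0 < Nat.card (Fusion.Swappers.Inv L) :=
    Nat.card_pos_iff.2 ⟨⟨⟨z, hz, hTL hzT⟩⟩, inferInstance⟩
  obtain ⟨⟨v, hv, hvy⟩⟩ := (Nat.card_pos_iff.1 (hcnt ▸ hpos)).1
  have hvv := invol_mul_self hv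
  rw [Fusion.Swappers.smul_one_coset] at hvy
  have hvL : v ∉ L := fun e => hy (hvy ▸ Fusion.Swappers.mk_eq_one_iff.2 e)
  set X : Subgroup G := L ⊓ L.map (MulAut.conj v).toMonoidHom with hX
  have hXodd : Odd (Nat.card X) := hSE.2.2 v hvL
  have hmemX : ∀ w : Fusion.Swappers.Sw L (g : G ⧸ L), v * (w : G) ∈ X := by
    intro w
    have h1 := w.2.2.trans hvy.symm
    rw [Fusion.Swappers.smul_one_coset, QuotientGroup.eq, invol_inv w.2.1] at h1
    have h2 : v * (w : G) ∈ L := by
      have := inv_mem h1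
      rwa [mul_inv_rev, invol_inv hv, invol_inv w.2.1] at this
    refine mem_inf.2 ⟨h2, Involutions.StronglyEmbedded.mem_conj_iff.2 ?_⟩
    rw [invol_inv hv, ← mul_assoc v v, hvv, one_mul]; exact h1
  let π : L →* L ⧸ center L := QuotientGroup.mk' (center L)
  set Y : Subgroup (L ⧸ center L) := (X.subgroupOf L).map π with hY
  have hYodd : Odd (Nat.card Y) := by
    refine hXodd.of_dvd_nat ((Subgroup.card_map_dvd _ _).trans ?_)
    rw [Nat.card_congr (Subgroup.subgroupOfEquivOfLe (inf_le_left : X ≤ L)).toEquiv]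
  let f : Fusion.Swappers.Sw L (g : G ⧸ L) → Y := fun w =>
    ⟨π ⟨v * (w : G), (mem_inf.1 (hmemX w)).1⟩, mem_map_of_mem π (mem_subgroupOf.2 (hmemX w))⟩
  have hinj : Function.Injective f := by
    intro w w' e
    have e' : π ⟨v * (w : G), (mem_inf.1 (hmemX w)).1⟩ = π ⟨v * (w' : G), (mem_inf.1 (hmemX w')).1⟩ :=
      congrArg Subtype.val e
    rw [QuotientGroup.mk'_apply, QuotientGroup.mk'_apply, QuotientGroup.eq] at e'
    set c : G := (w : G) * (w' : G) with hc
    have hcval : (v * (w : G))⁻¹ * (v * (w' : G)) = c := by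
      rw [hc, mul_inv_rev, invol_inv hv, invol_inv w.2.1, mul_assoc, ← mul_assoc v v, hvv, one_mul]
    have hcomm : ∀ l ∈ L, l * c = c * l := fun l hl => by
      rw [← hcval]
      exact congrArg Subtype.val (mem_center_iff.1 e' ⟨l, hl⟩)
    have hcL : c ∈ L := by
      rw [← hcval]; exact mul_mem (inv_mem (mem_inf.1 (hmemX w)).1) (mem_inf.1 (hmemX w')).1
    -- `v` inverts `c`
    have hinv : v * c * v⁻¹ = c⁻¹ := by
      have h3 : Commute (v * (w : G)) c := hcomm _ (mem_inf.1 (hmemX w)).1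
      calc v * c * v⁻¹ = (v * (w : G)) * (c⁻¹ * (v * (w : G))⁻¹) := by
            rw [hc]
            simp only [mul_inv_rev, invol_inv hv, invol_inv w.2.1, invol_inv w'.2.1, mul_assoc]
            rw [← mul_assoc (w : G) (w : G), invol_mul_self w.2.1, one_mul]
        _ = c⁻¹ * (v * (w : G)) * (v * (w : G))⁻¹ := by rw [← mul_assoc, h3.inv_right.eq]
        _ = c⁻¹ := by rw [mul_inv_cancel_right]
    have hc1 := Fusion.Swappers.eq_one_of_inverted_of_commute hSE hv hvL hcL hinv hz (hTL hzT)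
      (hcomm z (hTL hzT)).symm
    refine Subtype.ext ?_
    rw [hc] at hc1
    rw [← invol_inv w'.2.1]; exact eq_inv_of_mul_eq_one_left hc1
  have h1 := Nat.card_le_card_of_injective f hinj
  have h2 : Nat.card {i : L // orderOf i = 2} = Nat.card (Fusion.Swappers.Inv L) :=
    Nat.card_congr
      { toFun := fun i => ⟨i.1, by rw [orderOf_coe]; exact i.2, i.1.2⟩
        invFun := fun i => ⟨⟨i.1, i.2.2⟩, by rw [Subgroup.orderOf_mk]; exact i.2.1⟩
        left_inv := fun _ => rfl
        right_inv := fun _ => rfl }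
  have h3 := card_odd_lt hEA hYodd
  have h4 := card_invol_quotient_le hAI
  omega

/-- If `Z(G) = 1` all involution centralizers are elementary abelian. -/
theorem AIHyp.eahyp (h : AIHyp T) (hZ : center G = ⊥) : EAHyp T := by
  suffices ∀ (n : ℕ) (K : Type u) [Group K] [Finite K] (S : Sylow 2 K), Nat.card K = n →
      AIHyp S → center K = ⊥ → EAHyp S from this _ G T rfl h hZ
  intro n
  induction n using Nat.strong_induction_on with
  | _ n ih =>
    intro K _ _ S hn hS hZK
    exact eahyp_of_small hS (small_of_ih hS hZK fun M _ _ R hlt hR hZM =>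
      ih _ (hn ▸ hlt) M R rfl hR hZM)

theorem AIHyp.eahyp_quotient (h : AIHyp T) : EAHyp (imageSylow T) :=
  h.hyp_quotient.eahyp h.center_quotient_eq_bot

/-- `C(T) = T Z(G)`. -/
theorem AIHyp.cen_decomp (h : AIHyp T) {x : G} (hx : x ∈ cen T) :
    ∃ t ∈ T, t⁻¹ * x ∈ center G := by
  obtain ⟨z, hz, hzT, -⟩ := h.exists_central
  have hzne : (z : G ⧸ center G) ≠ 1 := fun e =>
    invol_ne_one hz (h.center_inf ((QuotientGroup.eq_one_iff (N := center G) z).1 e) hzT)
  have h1 : (x : G ⧸ center G) * (z : G ⧸ center G) = (z : G ⧸ center G) * (x : G ⧸ center G) := by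
    rw [← QuotientGroup.mk_mul, ← QuotientGroup.mk_mul, (h.mem_cen_iff hzT hz).2 hx]
  obtain ⟨t, ht, he⟩ := h.eahyp_quotient.mem_of_commute
    (mem_map_of_mem (QuotientGroup.mk' (center G)) hzT) hzne h1
  exact ⟨t, ht, QuotientGroup.eq.1 he⟩

end Cfsg.Agent.Lib.SuzukiAbelian
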