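import Cfsg.Agent.Lib.SuzukiAbelian.Basic
import Cfsg.Agent.Lib.Zassenhaus.AbelianKernel

/-!
# The case in which `C(a) ≤ H` for all nontrivial `a ∈ A`

Then `G` on `G ⧸ H` is a Zassenhaus group of odd degree with abelian kernel `A`, so
`|A| = |I(H)| + 1`, which forces `A = T` to be elementary abelian.
-/

set_option autoImplicit false

namespace Cfsg.Agent.Lib.SuzukiAbelian

open Subgroup
open Cfsg.Agent.Lib.Fusion.EACentralizers (nrm two)
open Cfsg.Agent.Lib.Involutions.Basic (invol_mul_self invol_ne_one invol_inv orderOf_conj_eq)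

variable {G : Type*} [Group G] [Finite G] {T : Sylow 2 G}

/-- Additional hypothesis of this file. -/
def SmallCentralizers (T : Sylow 2 G) : Prop :=
  ∀ a ∈ cen T, a ≠ 1 → centralizer ({a} : Set G) ≤ nrm T

variable (h : AIHyp T) (hs : SmallCentralizers T) {u : G} (hu : orderOf u = 2) (huH : u ∉ nrm T)

omit [Finite G] in
theorem eq_one_of_odd_pow {x : G} {D : Subgroup G} (hodd : Odd (Nat.card D)) (hx : x ∈ D)
    (h2 : x ^ 2 = 1) : x = 1 := by
  rcases Nat.prime_two.eq_one_or_self_of_dvd _ (orderOf_dvd_of_pow_eq_one h2) with h1 | h1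
  · exact orderOf_eq_one_iff.1 h1
  · have := orderOf_dvd_natCard _ hx
    rw [h1] at this
    exact absurd (even_iff_two_dvd.2 this) (Nat.not_even_iff_odd.2 hodd)

omit [Finite G] in
theorem conj_invol_mul {u a : G} (huu : u * u = 1) {b : G} :
    u * (a * b) * u = (u * a * u) * (u * b * u) := by
  calc u * (a * b) * u = u * a * 1 * b * u := by group
    _ = u * a * (u * u) * b * u := by rw [huu]
    _ = _ := by group

omit [Finite G] in
theorem conj_invol_invol {u a : G} (huu : u * u = 1) : u * (u * a * u) * u = a := by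
  calc u * (u * a * u) * u = (u * u) * a * (u * u) := by group
    _ = a := by rw [huu, one_mul, mul_one]

omit [Finite G] in
theorem two_mem_swap {u x : G} (hu : orderOf u = 2) (hx : x ∈ two T u) : u * x * u ∈ two T u := by
  have := Cfsg.Agent.Lib.Fusion.EACentralizers.two_swap hu hx
  rwa [invol_inv hu] at this

include h hu huH in
theorem odd_two : Odd (Nat.card (two T u)) := h.isStronglyEmbedded.2.2 u huH

include h hs hu huH in
theorem eq_one_of_cen_swap {a : G} (ha : a ∈ cen T) (ha' : u * a * u ∈ cen T) : a = 1 := by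
  by_contra hne
  obtain ⟨z, hz, hzT, -⟩ := h.exists_central
  have huu := invol_mul_self hu
  have hzH : z ∈ nrm T := le_normalizer hzT
  have h1 : u * z * u ∈ centralizer ({a} : Set G) := by
    rw [mem_centralizer_singleton_iff]
    have h2 := (h.mem_cen_iff hzT hz).2 ha'
    have h3 := congrArg (fun y => u * y * u) h2
    rw [conj_invol_mul (a := u * a * u) (b := z) huu, conj_invol_mul (a := z) (b := u * a * u) huu,
      conj_invol_invol huu] at h3
    exact h3.symm
  refine huH (Cfsg.Agent.Lib.Involutions.StronglyEmbedded.mem_of_conj_mem h.isStronglyEmbedded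
    hz hzH ?_)
  rw [invol_inv hu]
  exact hs a ha hne h1

include h hs in
/-- If `x` commutes with a nontrivial element `w` commuting with the involution `u`, then `u`
commutes with its `x`-conjugate. -/
theorem conj_commute {u w x : G} (hu : orderOf u = 2) (hwu : w * u = u * w) (hw : w ≠ 1)
    (hxw : x * w = w * x) : (x * u * x⁻¹) * u = u * (x * u * x⁻¹) := by
  obtain ⟨z, hz, hzT, -⟩ := h.exists_central
  obtain ⟨k, hk⟩ := h.exists_conj hu hz
  have hwk : k * w * k⁻¹ ∈ cen T := (h.mem_cen_iff hzT hz).1 (by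
    rw [← hk]
    calc k * w * k⁻¹ * (k * u * k⁻¹) = k * (w * u) * k⁻¹ := by group
      _ = k * (u * w) * k⁻¹ := by rw [hwu]
      _ = k * u * k⁻¹ * (k * w * k⁻¹) := by group)
  have hxk : k * x * k⁻¹ ∈ nrm T := by
    refine hs _ hwk (fun e => hw (conj_eq_one_iff.1 e)) (mem_centralizer_singleton_iff.2 ?_)
    calc k * x * k⁻¹ * (k * w * k⁻¹) = k * (x * w) * k⁻¹ := by group
      _ = k * (w * x) * k⁻¹ := by rw [hxw]
      _ = k * w * k⁻¹ * (k * x * k⁻¹) := by group
  have hy : k * (x * u * x⁻¹) * k⁻¹ ∈ T := by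
    have h1 : k * (x * u * x⁻¹) * k⁻¹ = (k * x * k⁻¹) * z * (k * x * k⁻¹)⁻¹ := by
      rw [← hk]; group
    rw [h1]
    exact Cfsg.Agent.Lib.Fusion.EACentralizers.conj_mem_T hxk hzT
  have h2 := h.comm hy hzT
  rw [← hk] at h2
  have h3 := congrArg (fun y => k⁻¹ * y * k) h2
  simpa [mul_assoc] using h3

include h hs hu huH in
/-- `A ⊓ H^u = 1`. -/
theorem eq_one_of_cen_of_swap {q : G} (hq : q ∈ cen T) (hq' : u * q * u ∈ nrm T) : q = 1 := by
  have huu := invol_mul_self hu
  set p := u * q * u with hp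
  have hup : u * p * u = q := conj_invol_invol huu
  -- `q` and `p` commute
  have hcomm : p * q = q * p := by
    have h1 : q * (p * q⁻¹ * p⁻¹) ∈ cen T := mul_mem hq (conj_mem_cen hq' (inv_mem hq))
    have h2 : u * (q * (p * q⁻¹ * p⁻¹)) * u = p * (q * p⁻¹ * q⁻¹) := by
      have e1 : u * q⁻¹ * u = p⁻¹ := by rw [hp, mul_inv_rev, mul_inv_rev, invol_inv hu, mul_assoc]
      have e2 : u * p⁻¹ * u = q⁻¹ := by rw [← e1, conj_invol_invol huu]
      rw [conj_invol_mul huu, conj_invol_mul huu, conj_invol_mul huu, hup, e1, e2]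
    have h3 : u * (q * (p * q⁻¹ * p⁻¹)) * u ∈ cen T := by
      have h4 : (q * (p * q⁻¹ * p⁻¹))⁻¹ = p * (q * p⁻¹ * q⁻¹) := by group
      rw [h2, ← h4]; exact inv_mem h1
    have h5 := eq_one_of_cen_swap h hs hu huH h1 h3
    have h6 : (q * p) * (p * q)⁻¹ = 1 := by rw [← h5]; group
    exact (mul_inv_eq_one.1 h6).symm
  have hwu : (q * p) * u = u * (q * p) := by
    have h1 : u * (q * p) * u = q * p := by rw [conj_invol_mul huu, hup, ← hp, hcomm]
    calc (q * p) * u = u * (q * p) * u * u := by rw [h1]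
      _ = u * (q * p) := by rw [mul_assoc _ u u, huu, mul_one]
  have hq2 : q ∈ two T u := (mem_two hu).2 ⟨cen_le_nrm hq, hq'⟩
  have hp2 : p ∈ two T u := two_mem_swap hu hq2
  refine eq_one_of_cen_swap h hs hu huH hq ?_
  rw [← hp]
  by_cases hw : q * p = 1
  · rw [show p = q⁻¹ from eq_inv_of_mul_eq_one_right hw]; exact inv_mem hq
  · have hxw : q * (q * p) = q * p * q := by rw [mul_assoc q p q, hcomm]
    have h1 := conj_commute h hs hu hwu hw hxw
    have h2 : (q * u * q⁻¹) * u = q * p⁻¹ := by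
      rw [hp, mul_inv_rev, mul_inv_rev, invol_inv hu]; group
    have h3 : (q * p⁻¹) ^ 2 = 1 := by
      rw [← h2, pow_two]
      calc q * u * q⁻¹ * u * (q * u * q⁻¹ * u) = q * u * q⁻¹ * u * (u * (q * u * q⁻¹)) := by rw [h1]
        _ = q * u * q⁻¹ * (u * u) * (q * u * q⁻¹) := by group
        _ = q * u * q⁻¹ * (q * u * q⁻¹) := by rw [huu, mul_one]
        _ = q * (u * u) * q⁻¹ := by group
        _ = 1 := by rw [huu, mul_one, mul_inv_cancel]
    have h4 := eq_one_of_odd_pow (odd_two h hu huH) (mul_mem hq2 (inv_mem hp2)) h3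
    rw [← mul_inv_eq_one.1 h4]; exact hq

include h hs hu huH in
theorem two_inf_cen {x : G} (hx : x ∈ two T u) (hxA : x ∈ cen T) : x = 1 :=
  eq_one_of_cen_of_swap h hs hu huH hxA ((mem_two hu).1 hx).2

include h hs hu huH in
/-- The swappers of `H` and `uH` are the involutions `u d`, so `u` inverts `H ⊓ H^u`. -/
theorem invert {d : G} (hd : d ∈ two T u) : u * d * u = d⁻¹ := by
  obtain ⟨z, hz, hzT, -⟩ := h.exists_central
  have hzH : z ∈ nrm T := le_normalizer hzT
  have huu := invol_mul_self hu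
  have hD : Nat.card (two T u) ≤ Nat.card (Fusion.Swappers.Inv (nrm T)) := by
    refine Nat.card_le_card_of_injective (fun e : two T u => (⟨(e : G) * z * (e : G)⁻¹,
      (orderOf_conj_eq _ z).trans hz,
      mul_mem (mul_mem ((mem_two hu).1 e.2).1 hzH) (inv_mem ((mem_two hu).1 e.2).1)⟩ :
        Fusion.Swappers.Inv (nrm T))) fun e e' he => ?_
    have he' : (e : G) * z * (e : G)⁻¹ = (e' : G) * z * (e' : G)⁻¹ := congrArg Subtype.val he
    have h1 : (e' : G)⁻¹ * e ∈ cen T := (h.mem_cen_iff hzT hz).1 (by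
      have h3 := congrArg (fun y => (e' : G)⁻¹ * y * e) he'
      simpa [mul_assoc] using h3)
    exact Subtype.ext (inv_mul_eq_one.1 (two_inf_cen h hs hu huH (mul_mem (inv_mem e'.2) e.2) h1)).symm
  have hy : ((u : G) : G ⧸ nrm T) ≠ ((1 : G) : G ⧸ nrm T) := fun e =>
    huH (Fusion.Swappers.mk_eq_one_iff.1 e)
  have hmem : ∀ w : Fusion.Swappers.Sw (nrm T) (u : G ⧸ nrm T), u * (w : G) ∈ two T u := by
    intro w
    have h1 := w.2.2
    rw [Fusion.Swappers.smul_one_coset, QuotientGroup.eq, invol_inv w.2.1] at h1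
    have h2 : u * (w : G) ∈ nrm T := by
      have := inv_mem h1
      rwa [mul_inv_rev, invol_inv hu, invol_inv w.2.1] at this
    refine (mem_two hu).2 ⟨h2, ?_⟩
    rw [← mul_assoc u u, huu, one_mul]; exact h1
  let f : Fusion.Swappers.Sw (nrm T) (u : G ⧸ nrm T) → two T u := fun w => ⟨u * (w : G), hmem w⟩
  have hinj : Function.Injective f := fun w w' e =>
    Subtype.ext (mul_left_cancel (congrArg Subtype.val e : u * (w : G) = u * (w' : G)))
  obtain ⟨w, hw⟩ := (hinj.bijective_of_nat_card_le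
    (hD.trans (Fusion.Swappers.card_sw h.isStronglyEmbedded hy).ge)).2 ⟨d, hd⟩
  have hwd : u * (w : G) = d := congrArg Subtype.val hw
  rw [← hwd, mul_inv_rev, invol_inv hu, invol_inv w.2.1, ← mul_assoc u u, huu, one_mul]

include h hs hu huH in
theorem inverted_of_commute {d x : G} (hd : d ∈ two T u) (hd1 : d ≠ 1) (hx : x * d = d * x) :
    u * x * u = x⁻¹ := by
  have huu := invol_mul_self hu
  have hinv := invert h hs hu huH hd
  have hfree : ∀ y : G, y * d = d * y → y * u = u * y → y = 1 := by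
    intro y hy hyu
    by_contra hy1
    have h1 := conj_commute h hs hu hyu hy1 hy.symm
    have h2 : (d * u * d⁻¹) * u = d * d := by
      calc d * u * d⁻¹ * u = d * u * (u * d * u) * u := by rw [hinv]
        _ = d * (u * u) * d * (u * u) := by group
        _ = d * d := by rw [huu, mul_one, mul_one]
    have h3 : (d * d) ^ 2 = 1 := by
      rw [← h2, pow_two]
      calc d * u * d⁻¹ * u * (d * u * d⁻¹ * u) = d * u * d⁻¹ * u * (u * (d * u * d⁻¹)) := by rw [h1]
        _ = d * u * d⁻¹ * (u * u) * (d * u * d⁻¹) := by group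
        _ = d * u * d⁻¹ * (d * u * d⁻¹) := by rw [huu, mul_one]
        _ = d * (u * u) * d⁻¹ := by group
        _ = 1 := by rw [huu, mul_one, mul_inv_cancel]
    refine hd1 (eq_one_of_odd_pow (odd_two h hu huH) hd ?_)
    rw [pow_two]
    exact eq_one_of_odd_pow (odd_two h hu huH) (mul_mem hd hd) h3
  let C : Subgroup G := centralizer ({d} : Set G)
  have hC : ∀ y, y ∈ C ↔ y * d = d * y := fun y => mem_centralizer_singleton_iff
  have hconj : ∀ y ∈ C, u * y * u ∈ C := by
    intro y hy
    rw [hC] at hy ⊢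
    have hinv' : u * d⁻¹ * u = d := by rw [← hinv, conj_invol_invol huu]
    have h1 : y * d⁻¹ = d⁻¹ * y := (Commute.inv_right (show Commute y d from hy)).eq
    have := congrArg (fun t => u * t * u) h1
    rwa [conj_invol_mul huu, conj_invol_mul huu, hinv'] at this
  let φ : C → C := fun y => ⟨(y : G)⁻¹ * (u * y * u), mul_mem (inv_mem y.2) (hconj _ y.2)⟩
  have hinj : Function.Injective φ := by
    intro y y' he
    have h1 : (y : G)⁻¹ * (u * y * u) = (y' : G)⁻¹ * (u * y' * u) := congrArg Subtype.val he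
    have h1' : (y : G)⁻¹ * u * y = (y' : G)⁻¹ * u * y' := by
      simp only [← mul_assoc] at h1; exact mul_right_cancel h1
    have h2 : ((y' : G) * (y : G)⁻¹) * u = u * ((y' : G) * (y : G)⁻¹) := by
      have := congrArg (fun w => (y' : G) * w * (y : G)⁻¹) h1'
      simpa [mul_assoc] using this
    exact Subtype.ext (mul_inv_eq_one.1
      (hfree _ ((hC _).1 (mul_mem y'.2 (inv_mem y.2))) h2)).symm
  obtain ⟨y, hy⟩ := Finite.injective_iff_surjective.1 hinj ⟨x, (hC x).2 hx⟩
  have h1 : (y : G)⁻¹ * (u * y * u) = x := congrArg Subtype.val hy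
  rw [← h1, conj_invol_mul huu, conj_invol_invol huu, mul_inv_rev, inv_inv, mul_inv_rev,
    mul_inv_rev, invol_inv hu]
  group

include h hs hu huH in
/-- The centralizer of a nontrivial element of `D` is `D`. -/
theorem centralizer_two {d x : G} (hd : d ∈ two T u) (hd1 : d ≠ 1) (hx : x * d = d * x) :
    x ∈ two T u := by
  have huu := invol_mul_self hu
  have hinv := invert h hs hu huH hd
  by_cases hxH : x ∈ nrm T
  · exact (mem_two hu).2 ⟨hxH, by
      rw [inverted_of_commute h hs hu huH hd hd1 hx]; exact inv_mem hxH⟩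
  · exfalso
    obtain ⟨v, hv, hxv⟩ := h.exists_invol_coset hxH
    have hvv := invol_mul_self hv
    have hvH : v ∉ nrm T := fun e => hxH (by
      have := mul_mem e (inv_mem hxv)
      simpa using this)
    have hdv : d ∈ two T v := by
      refine (mem_two hv).2 ⟨((mem_two hu).1 hd).1, ?_⟩
      have h0 : x * d * x⁻¹ = d := by rw [hx, mul_inv_cancel_right]
      have h1 : v * d * v = (x⁻¹ * v)⁻¹ * d * (x⁻¹ * v) := by
        conv_lhs => rw [← h0]
        rw [mul_inv_rev, inv_inv, invol_inv hv]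
        group
      rw [h1]
      exact mul_mem (mul_mem (inv_mem hxv) ((mem_two hu).1 hd).1) hxv
    have hcomm : (u * v) * d = d * (u * v) := by
      have h1 := invert h hs hv hvH hdv
      have h2 : u * d⁻¹ * u = d := by rw [← hinv, conj_invol_invol huu]
      calc u * v * d = u * (v * d * v) * v := by
            rw [mul_assoc u (v * d * v) v, mul_assoc (v * d) v v, hvv, mul_one, ← mul_assoc]
        _ = u * d⁻¹ * (u * u) * v := by rw [h1, huu, mul_one]
        _ = (u * d⁻¹ * u) * (u * v) := by group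
        _ = d * (u * v) := by rw [h2]
    -- `y = x u v` centralizes `d` and `u y ∈ H`
    have hy : (x * (u * v)) * d = d * (x * (u * v)) :=
      (Commute.mul_left (show Commute x d from hx) hcomm).eq
    have hxi := inverted_of_commute h hs hu huH hd hd1 hx
    have hyi := inverted_of_commute h hs hu huH hd hd1 hy
    have huy : u * (x * (u * v)) ∈ nrm T := by
      rw [show u * (x * (u * v)) = u * x * u * v by group, hxi]; exact hxv
    set y := x * (u * v) with hydef
    have hsq : (u * y) ^ 2 = 1 := by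
      rw [pow_two, ← mul_assoc, hyi, inv_mul_cancel]
    have hne : u * y ≠ 1 := by
      intro e
      have e' : u = y⁻¹ := eq_inv_of_mul_eq_one_left e
      have hud : u * d = d * u := by
        rw [e']; exact (Commute.inv_left (show Commute y d from hy)).eq
      have : d⁻¹ = d := by rw [← hinv, hud, mul_assoc, huu, mul_one]
      exact hd1 (eq_one_of_odd_pow (odd_two h hu huH) hd (by
        rw [pow_two]; nth_rw 1 [← this]; exact inv_mul_cancel d))
    have huyT := h.invol_mem (orderOf_eq_prime hsq hne) huy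
    have hconj : (u * y) * d * (u * y)⁻¹ = d⁻¹ := by
      rw [← hinv, mul_assoc u y d, hy, mul_inv_rev, invol_inv hu]; group
    have hdd : d * d ∈ cen T := by
      have h3 : d * d = (d * (u * y) * d⁻¹) * (u * y)⁻¹ := by
        have : d * (u * y) * d⁻¹ * (u * y)⁻¹ = d * ((u * y) * d * (u * y)⁻¹)⁻¹ := by group
        rw [this, hconj, inv_inv]
      rw [h3]
      exact h.T_le_cen (mul_mem
        (Cfsg.Agent.Lib.Fusion.EACentralizers.conj_mem_T ((mem_two hu).1 hd).1 huyT) (inv_mem huyT))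
    exact hd1 (eq_one_of_odd_pow (odd_two h hu huH) hd (by
      rw [pow_two]; exact two_inf_cen h hs hu huH (mul_mem hd hd) hdd))

include h hs hu huH in
/-- A nontrivial element of `D` fixes only the cosets `H` and `u H`. -/
theorem fixed_points {d g : G} (hd : d ∈ two T u) (hd1 : d ≠ 1) (hg : g ∉ nrm T)
    (hfix : g⁻¹ * d * g ∈ nrm T) : g⁻¹ * u ∈ nrm T := by
  have huu := invol_mul_self hu
  obtain ⟨v, hv, hgv⟩ := h.exists_invol_coset hg
  have hvv := invol_mul_self hv
  have hvH : v ∉ nrm T := fun e => hg (by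
    have := mul_mem e (inv_mem hgv)
    simpa using this)
  have hdv : d ∈ two T v := by
    refine (mem_two hv).2 ⟨((mem_two hu).1 hd).1, ?_⟩
    have h1 : v * d * v = (g⁻¹ * v)⁻¹ * (g⁻¹ * d * g) * (g⁻¹ * v) := by
      rw [mul_inv_rev, inv_inv, invol_inv hv]; group
    rw [h1]
    exact mul_mem (mul_mem (inv_mem hgv) hfix) hgv
  have hcomm : (u * v) * d = d * (u * v) := by
    have h1 := invert h hs hv hvH hdv
    have h2 : u * d⁻¹ * u = d := by rw [← invert h hs hu huH hd, conj_invol_invol huu]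
    calc u * v * d = u * (v * d * v) * v := by
          rw [mul_assoc u (v * d * v) v, mul_assoc (v * d) v v, hvv, mul_one, ← mul_assoc]
      _ = u * d⁻¹ * (u * u) * v := by rw [h1, huu, mul_one]
      _ = (u * d⁻¹ * u) * (u * v) := by group
      _ = d * (u * v) := by rw [h2]
  have hmem := ((mem_two hu).1 (centralizer_two h hs hu huH hd hd1 hcomm)).1
  have : g⁻¹ * u = (g⁻¹ * v) * (u * v)⁻¹ := by
    rw [mul_inv_rev, invol_inv hv, invol_inv hu, mul_assoc, ← mul_assoc v v u, hvv, one_mul]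
  rw [this]; exact mul_mem hgv (inv_mem hmem)

include h hs in
/-- An element of `A` fixing another coset is trivial. -/
theorem cen_free {a g : G} (ha : a ∈ cen T) (hg : g ∉ nrm T) (hfix : g⁻¹ * a * g ∈ nrm T) :
    a = 1 := by
  obtain ⟨v, hv, hgv⟩ := h.exists_invol_coset hg
  have hvH : v ∉ nrm T := fun e => hg (by
    have := mul_mem e (inv_mem hgv)
    simpa using this)
  refine eq_one_of_cen_of_swap h hs hv hvH ha ?_
  have h1 : v * a * v = (g⁻¹ * v)⁻¹ * (g⁻¹ * a * g) * (g⁻¹ * v) := by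
    rw [mul_inv_rev, inv_inv, invol_inv hv]; group
  rw [h1]
  exact mul_mem (mul_mem (inv_mem hgv) hfix) hgv

include h hs hu huH in
/-- `A` is transitive on the cosets other than `H`. -/
theorem exists_coset_rep {g : G} (hg : g ∉ nrm T) :
    ∃ a ∈ cen T, (QuotientGroup.mk g : G ⧸ nrm T) = QuotientGroup.mk (a * u) := by
  obtain ⟨v, hv, hgv⟩ := h.exists_invol_coset hg
  have hvH : v ∉ nrm T := fun e => hg (by
    have := mul_mem e (inv_mem hgv)
    simpa using this)
  obtain ⟨e, he, he1⟩ : ∃ e ∈ two T v, e ≠ 1 := by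
    by_contra! hcon
    obtain ⟨z, hz, hzT, -⟩ := h.exists_central
    obtain ⟨t, ht, htT, htz⟩ := h.exists_second_invol z hz
    obtain ⟨d, hd, hdt⟩ := Fusion.Swappers.two_transitive h.isStronglyEmbedded hv hvH hz
      (le_normalizer hzT) ht (le_normalizer htT)
    have : d = 1 := hcon d hd
    rw [this, one_mul, inv_one, mul_one] at hdt
    exact htz hdt.symm
  obtain ⟨d, hd, hda, -⟩ := h.decomp hu huH ((mem_two hv).1 he).1
  have hd1 : d ≠ 1 := by
    rintro rfl
    exact he1 (two_inf_cen h hs hv hvH he (by simpa using hda))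
  -- `a ↦ a (d a⁻¹ d⁻¹)` is a bijection of `A`
  have hdH := ((mem_two hu).1 hd).1
  let ψ : cen T → cen T := fun a =>
    ⟨(a : G) * (d * (a : G)⁻¹ * d⁻¹), mul_mem a.2 (conj_mem_cen hdH (inv_mem a.2))⟩
  have hinj : Function.Injective ψ := by
    intro a b hab
    have hab' : (a : G) * (d * (a : G)⁻¹ * d⁻¹) = (b : G) * (d * (b : G)⁻¹ * d⁻¹) :=
      congrArg Subtype.val hab
    have h1 : ((b : G)⁻¹ * a) * d = d * ((b : G)⁻¹ * a) := by
      have := congrArg (fun y => (b : G)⁻¹ * y * d * a) hab'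
      simpa [mul_assoc] using this
    have h2 := centralizer_two h hs hu huH hd hd1 h1
    exact Subtype.ext (inv_mul_eq_one.1
      (two_inf_cen h hs hu huH h2 (mul_mem (inv_mem b.2) a.2))).symm
  obtain ⟨s, hs'⟩ := Finite.injective_iff_surjective.1 hinj
    ⟨d * (d⁻¹ * e) * d⁻¹, conj_mem_cen hdH hda⟩
  have hse : (s : G) * d * (s : G)⁻¹ = e := by
    have h1 : (s : G) * (d * (s : G)⁻¹ * d⁻¹) = d * (d⁻¹ * e) * d⁻¹ := congrArg Subtype.val hs'
    have := congrArg (· * d) h1
    simpa [mul_assoc] using this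
  refine ⟨s, s.2, ?_⟩
  have hsH : (s : G) ∈ nrm T := cen_le_nrm s.2
  have hsg : (s : G)⁻¹ * g ∉ nrm T := fun e => hg (by simpa using mul_mem hsH e)
  have hfix : ((s : G)⁻¹ * g)⁻¹ * d * ((s : G)⁻¹ * g) ∈ nrm T := by
    have h1 : ((s : G)⁻¹ * g)⁻¹ * d * ((s : G)⁻¹ * g) =
        (g⁻¹ * v) * (v⁻¹ * e * v) * (g⁻¹ * v)⁻¹ := by rw [← hse]; group
    rw [h1, invol_inv hv]
    exact mul_mem (mul_mem hgv ((mem_two hv).1 he).2) (inv_mem hgv)
  have := fixed_points h hs hu huH hd hd1 hsg hfix
  rw [QuotientGroup.eq]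
  rwa [mul_inv_rev, inv_inv, mul_assoc] at this

section Zassenhaus

open MulAction

local notation "Ω" => G ⧸ nrm T
local notation "o₀" => (QuotientGroup.mk (1 : G) : G ⧸ nrm T)

include h in
omit [Finite G] in
theorem mk_ne_one {g : G} (hg : g ∉ nrm T) : (QuotientGroup.mk g : Ω) ≠ o₀ :=
  fun e => hg (Fusion.Swappers.mk_eq_one_iff.1 e)

omit [Finite G] in
theorem smul_one_eq {g : G} : g • o₀ = o₀ ↔ g ∈ nrm T := by
  rw [Fusion.Swappers.smul_one_coset, Fusion.Swappers.mk_eq_one_iff]

include h hs hu huH in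
theorem abKernel_regular {x : Ω} (hx : x ≠ o₀) :
    ∃! a : cen T, (a : G) • (QuotientGroup.mk u : Ω) = x := by
  obtain ⟨g, rfl⟩ := QuotientGroup.mk_surjective x
  have hg : g ∉ nrm T := fun e => hx (Fusion.Swappers.mk_eq_one_iff.2 e)
  obtain ⟨a, ha, he⟩ := exists_coset_rep h hs hu huH hg
  refine ⟨⟨a, ha⟩, ?_, ?_⟩
  · show a • (QuotientGroup.mk u : Ω) = _
    rw [MulAction.Quotient.smul_mk, smul_eq_mul, he]
  · rintro ⟨b, hb⟩ hbe
    rw [MulAction.Quotient.smul_mk, smul_eq_mul, he, QuotientGroup.eq] at hbe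
    apply Subtype.ext
    have h1 : u⁻¹ * (b⁻¹ * a) * u ∈ nrm T := by simpa [mul_assoc] using hbe
    exact inv_mul_eq_one.1 (cen_free h hs (mul_mem (inv_mem hb) ha) huH h1)

include h hs in
theorem isZassenhaus : Cfsg.IsZassenhausGroup G (G ⧸ nrm T) := by
  obtain ⟨u, hu, huH⟩ := h.exists_invol_notMem
  obtain ⟨z, hz, hzT, -⟩ := h.exists_central
  have hreg := fun {x : Ω} => abKernel_regular (x := x) h hs hu huH
  have htwo : ∀ x y : Ω, x ≠ y →
      ∃ g : G, g • o₀ = x ∧ g • (QuotientGroup.mk u : Ω) = y := by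
    intro x y hxy
    obtain ⟨g, rfl⟩ := MulAction.exists_smul_eq G o₀ x
    obtain ⟨a, ha, -⟩ := hreg (x := g⁻¹ • y) (fun e => hxy (by rw [← e, smul_inv_smul]))
    refine ⟨g * a, ?_, by rw [mul_smul, ha, smul_inv_smul]⟩
    rw [mul_smul, smul_one_eq.2 (cen_le_nrm a.2)]
  have hthree : ∀ g : G, ∀ a b c : Ω, a ≠ b → b ≠ c → a ≠ c →
      g • a = a → g • b = b → g • c = c → g = 1 := by
    intro g a b c hab hbc hac hga hgb hgc
    obtain ⟨k, rfl, rfl⟩ := htwo a b hab
    have hfix : ∀ x : Ω, g • (k • x) = k • x → (k⁻¹ * g * k) • x = x := fun x hx => by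
      rw [mul_smul, mul_smul, hx, inv_smul_smul]
    have h1 := hfix _ hga
    have h2 := hfix _ hgb
    have h3 := hfix (k⁻¹ • c) (by rw [smul_inv_smul, hgc])
    obtain ⟨c', hc'⟩ := QuotientGroup.mk_surjective (k⁻¹ • c)
    rw [← hc', Involutions.StronglyEmbedded.smul_coset_eq_iff] at h3
    rw [Involutions.StronglyEmbedded.smul_coset_eq_iff] at h2
    rw [smul_one_eq] at h1
    have hd : k⁻¹ * g * k ∈ two T u := (mem_two hu).2 ⟨h1, by rwa [invol_inv hu] at h2⟩
    by_contra hg1
    have hd1 : k⁻¹ * g * k ≠ 1 := fun e => hg1 (by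
      have := congrArg (fun y => k * y * k⁻¹) e
      simpa [mul_assoc] using this)
    have hc'H : c' ∉ nrm T := fun e => hac (by
      have h4 : k⁻¹ • c = o₀ := by rw [← hc']; exact Fusion.Swappers.mk_eq_one_iff.2 e
      rw [← h4, smul_inv_smul])
    have h4 := fixed_points h hs hu huH hd hd1 hc'H h3
    exact hbc (by rw [← smul_inv_smul k c, ← hc', QuotientGroup.eq.2 h4])
  -- a third point
  have hzu : z * u ∉ nrm T := fun e => huH (by simpa using mul_mem (inv_mem (Fusion.EACentralizers.T_le hzT : z ∈ nrm T)) e)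
  have hthird : (QuotientGroup.mk (z * u) : Ω) ≠ QuotientGroup.mk u := by
    intro e
    have h1 : u⁻¹ * z⁻¹ * u ∈ nrm T := by
      rw [QuotientGroup.eq] at e; simpa [mul_assoc] using e
    have := cen_free h hs (h.T_le_cen (inv_mem hzT)) huH h1
    exact invol_ne_one hz (inv_eq_one.1 this)
  refine ⟨⟨fun {g g'} hgg => ?_⟩, MulAction.is_two_pretransitive_iff.2 fun {a b c d} hab hcd => ?_,
    hthree, ?_, ?_⟩
  · refine inv_mul_eq_one.1 (hthree (g⁻¹ * g') o₀ _ _ (mk_ne_one h huH).symm hthird.symm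
      (mk_ne_one h hzu).symm ?_ ?_ ?_) <;> rw [mul_smul, inv_smul_eq_iff, hgg]
  · obtain ⟨k, hk1, hk2⟩ := htwo a b hab
    obtain ⟨l, hl1, hl2⟩ := htwo c d hcd
    exact ⟨l * k⁻¹, by rw [mul_smul, ← hk1, inv_smul_smul, hl1],
      by rw [mul_smul, ← hk2, inv_smul_smul, hl2]⟩
  · obtain ⟨t, ht, htT, htz⟩ := h.exists_second_invol z hz
    obtain ⟨d, hd, hdt⟩ := Fusion.Swappers.two_transitive h.isStronglyEmbedded hu huH hz
      (le_normalizer hzT) ht (le_normalizer htT)
    refine ⟨d, fun e => htz (by simpa [e] using hdt.symm), o₀, _, (mk_ne_one h huH).symm, ?_, ?_⟩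
    · exact smul_one_eq.2 (mem_inf.1 hd).1
    · rw [Involutions.StronglyEmbedded.smul_coset_eq_iff]
      exact Involutions.StronglyEmbedded.mem_conj_iff.1 (mem_inf.1 hd).2
  · -- no regular normal subgroup: every involution would invert it
    intro N hN htr
    by_contra! hfree
    obtain ⟨t, ht, htT, htz⟩ := h.exists_second_invol z hz
    have hNH : ∀ y ∈ N, y ∈ nrm T → y = 1 := by
      intro y hy hyH
      have hmem : (⟨y, hy⟩ : N) ∈ stabilizer N o₀ := smul_one_eq.2 hyH
      exact congrArg Subtype.val (Subgroup.mem_bot.1 ((hfree o₀).le hmem))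
    have hinv : ∀ s ∈ T, orderOf s = 2 → ∀ y ∈ N, s * y * s = y⁻¹ := by
      intro s hsT hs2
      have hss := invol_mul_self hs2
      let φ : N → N := fun y => ⟨(y : G)⁻¹ * (s * y * s), mul_mem (inv_mem y.2) (by
        have := hN.conj_mem _ y.2 s; rwa [invol_inv hs2] at this)⟩
      have hinj : Function.Injective φ := by
        intro y y' he
        have h1 : (y : G)⁻¹ * (s * y * s) = (y' : G)⁻¹ * (s * y' * s) := congrArg Subtype.val he
        simp only [← mul_assoc] at h1
        replace h1 := mul_right_cancel h1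
        have h2 : ((y' : G) * (y : G)⁻¹) * s = s * ((y' : G) * (y : G)⁻¹) := by
          have := congrArg (fun w => (y' : G) * w * (y : G)⁻¹) h1
          simpa [mul_assoc] using this
        exact Subtype.ext (mul_inv_eq_one.1 (hNH _ (mul_mem y'.2 (inv_mem y.2))
          (cen_le_nrm ((h.mem_cen_iff hsT hs2).1 h2)))).symm
      intro y hy
      obtain ⟨x, hx⟩ := Finite.injective_iff_surjective.1 hinj ⟨y, hy⟩
      have h1 : (x : G)⁻¹ * (s * x * s) = y := congrArg Subtype.val hx
      rw [← h1, conj_invol_mul hss, conj_invol_invol hss, mul_inv_rev, inv_inv, mul_inv_rev,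
        mul_inv_rev, invol_inv hs2]
      group
    obtain ⟨x, hx⟩ := htr.exists_smul_eq o₀ (QuotientGroup.mk u : Ω)
    have hxH : (x : G) ∉ nrm T := fun e => mk_ne_one h huH (by
      rw [← hx]; exact smul_one_eq.2 e)
    have htzT : t * z ∈ T := mul_mem htT hzT
    have htz1 : t * z ≠ 1 := fun e => htz (by
      rw [← invol_inv hz]; exact eq_inv_of_mul_eq_one_left e)
    have hcomm : (x : G) * (t * z) = (t * z) * x := by
      have h1 : z * (x : G)⁻¹ * z = x := by rw [hinv z hzT hz _ (inv_mem x.2), inv_inv]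
      have h2 : t * (x : G) * t = (x : G)⁻¹ := hinv t htT ht _ x.2
      calc (x : G) * (t * z) = (t * t) * x * t * z := by rw [invol_mul_self ht, one_mul, mul_assoc]
        _ = t * (t * x * t) * z := by group
        _ = t * (x : G)⁻¹ * z := by rw [h2]
        _ = t * (z * z) * (x : G)⁻¹ * z := by rw [invol_mul_self hz, mul_one]
        _ = t * z * (z * (x : G)⁻¹ * z) := by group
        _ = (t * z) * x := by rw [h1]
    have htz2 : orderOf (t * z) = 2 := orderOf_eq_prime (by
      rw [pow_two, mul_assoc, ← mul_assoc z t z, h.comm hzT htT, mul_assoc t z z,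
        invol_mul_self hz, mul_one, invol_mul_self ht]) htz1
    exact hxH (cen_le_nrm ((h.mem_cen_iff htzT htz2).1 hcomm))

include h hs in
/-- Under small centralizers `A = T` is elementary abelian. -/
theorem eahyp_of_small : Cfsg.Agent.Lib.Fusion.EACentralizers.EAHyp T := by
  obtain ⟨u, hu, huH⟩ := h.exists_invol_notMem
  obtain ⟨z, hz, hzT, -⟩ := h.exists_central
  have hK : Cfsg.Agent.Lib.Zassenhaus.AbKernel o₀ (QuotientGroup.mk u : Ω) (cen T) := {
    le := fun a ha => mem_stabilizer_iff.2 (smul_one_eq.2 (cen_le_nrm ha))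
    conj := fun g hg a ha => conj_mem_cen (smul_one_eq.1 hg) ha
    comm := fun a ha b hb => h.cen_comm ha hb
    reg := fun x hx => abKernel_regular h hs hu huH hx }
  have hodd : Odd (Nat.card (G ⧸ nrm T)) := by
    rw [← index_eq_card]
    refine Nat.not_even_iff_odd.1 fun he => T.not_dvd_index ?_
    exact (even_iff_two_dvd.1 he).trans (index_dvd_of_le le_normalizer)
  have hcard := Cfsg.Agent.Lib.Zassenhaus.card_pair_of_odd (isZassenhaus h hs)
    (mk_ne_one h huH).symm hK hodd
  have hstab : stabilizer G o₀ ⊓ stabilizer G (QuotientGroup.mk u : Ω) = two T u := by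
    ext x
    rw [mem_inf, mem_stabilizer_iff, mem_stabilizer_iff, smul_one_eq,
      Involutions.StronglyEmbedded.smul_coset_eq_iff, Fusion.EACentralizers.mem_two]
  rw [hstab, ← Cfsg.Agent.Lib.Zassenhaus.AbKernel.card_add_one (mk_ne_one h huH).symm hK] at hcard
  -- `|D| ≤ |I(H)| ≤ |{x ∈ A | x² = 1}| - 1`
  let E : Set G := {x | x ∈ T ∧ x ^ 2 = 1 ∧ x ≠ 1}
  have hDE : Nat.card (two T u) ≤ Nat.card E := by
    refine Nat.card_le_card_of_injective (fun e : two T u => (⟨(e : G) * z * (e : G)⁻¹,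
      Fusion.EACentralizers.conj_mem_T ((mem_two hu).1 e.2).1 hzT,
      by rw [conj_pow, pow_two, invol_mul_self hz, mul_one, mul_inv_cancel],
      fun e' => invol_ne_one hz (conj_eq_one_iff.1 e')⟩ : E)) fun e e' he => ?_
    have he' : (e : G) * z * (e : G)⁻¹ = (e' : G) * z * (e' : G)⁻¹ := congrArg Subtype.val he
    have h1 : (e' : G)⁻¹ * e ∈ cen T := (h.mem_cen_iff hzT hz).1 (by
      have h3 := congrArg (fun y => (e' : G)⁻¹ * y * e) he'
      simpa [mul_assoc] using h3)
    exact Subtype.ext (inv_mul_eq_one.1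
      (two_inf_cen h hs hu huH (mul_mem (inv_mem e'.2) e.2) h1)).symm
  have hA : ((cen T : Subgroup G) : Set G) ⊆ insert 1 E := by
    have hsub : insert 1 E ⊆ ((cen T : Subgroup G) : Set G) := by
      rintro x (rfl | hx)
      · exact one_mem _
      · exact h.T_le_cen hx.1
    refine (Set.eq_of_subset_of_ncard_le hsub ?_ (Set.toFinite _)).ge
    rw [Set.ncard_insert_of_notMem (fun e => e.2.2 rfl) (Set.toFinite _),
      ← Nat.card_coe_set_eq, ← Nat.card_coe_set_eq]
    show Nat.card (cen T) ≤ _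
    omega
  refine h.toEAHyp (fun x hx => ?_) fun x hx => ?_
  · rcases hA hx with rfl | h1
    · exact one_mem _
    · exact h1.1
  · rcases hA (h.T_le_cen hx) with rfl | h1
    · exact one_pow 2
    · exact h1.2.1

end Zassenhaus

end Cfsg.Agent.Lib.SuzukiAbelian
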